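import Mathlib
import Cfsg.Prelude.Def_LieRecognition
import Cfsg.Agent.Lib.Basic
import Cfsg.Agent.Lib.Elementary
import Cfsg.Agent.Lib.ZJ.Complement
import Cfsg.Agent.Lib.BSW.Struct
import Cfsg.Agent.S0205

/-!
Insoluble groups whose involution centralisers are two-groups: trivial odd core, quotients by normal two-subgroups,
and the simple socle of the quotient by the two-core.
-/

set_option autoImplicit false
set_option linter.unusedSectionVars false
set_option linter.style.haveILetI false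

namespace CfsgLib.CITQuot

open Subgroup

universe u

/-- The centraliser of every involution is a two-group. -/
abbrev CIT (G : Type u) [Group G] : Prop := ∀ t : G, orderOf t = 2 → IsPGroup 2 (centralizer ({t} : Set G))

variable {G : Type u} [Group G] [Finite G]

theorem solvable_of_odd (h : Odd (Nat.card G)) : Group.IsSolvable G := Cfsg.Agent.S0205.result h

theorem two_dvd_card (hns : ¬ Group.IsSolvable G) : 2 ∣ Nat.card G := by
  rcases Nat.even_or_odd (Nat.card G) with h | h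
  · exact h.two_dvd
  · exact absurd (solvable_of_odd h) hns

theorem no_commute (hC : CIT G) {a b : G} {r : ℕ} (hr : r.Prime) (hr2 : r ≠ 2) (ha : 2 ∣ orderOf a)
    (hb : r ∣ orderOf b) (hab : Commute a b) : False := by
  have h1 : orderOf (a ^ (orderOf a / 2)) = 2 := orderOf_pow_orderOf_div (orderOf_pos a).ne' ha
  obtain ⟨j, hj⟩ := IsPGroup.iff_orderOf.mp (hC _ h1)
    ⟨b, mem_centralizer_singleton_iff.mpr ((hab.pow_left (orderOf a / 2)).symm : _)⟩
  rw [← Subgroup.orderOf_coe] at hj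
  simp only at hj
  rw [hj] at hb
  exact hr2 ((Nat.prime_dvd_prime_iff_eq hr Nat.prime_two).mp (hr.dvd_of_dvd_pow hb))

theorem cit_subgroup (hC : CIT G) (H : Subgroup G) : CIT H := by
  intro t ht c
  rw [← Subgroup.orderOf_coe] at ht
  obtain ⟨k, hk⟩ := hC _ ht ⟨((c : H) : G), mem_centralizer_singleton_iff.mpr
    (congrArg Subtype.val (mem_centralizer_singleton_iff.mp c.2))⟩
  refine ⟨k, Subtype.ext (Subtype.ext ?_)⟩
  simpa using congrArg Subtype.val hk

/-- An element of odd prime order has no fixed points on a two-subgroup. -/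
theorem fpf (hC : CIT G) {x v : G} {r : ℕ} (hr : r.Prime) (hr2 : r ≠ 2) (hx : r ∣ orderOf x) {i : ℕ}
    (hv : v ^ 2 ^ i = 1) (hc : Commute v x) : v = 1 := by
  by_contra h1
  obtain ⟨j, -, hj⟩ := (Nat.dvd_prime_pow Nat.prime_two).mp (orderOf_dvd_of_pow_eq_one hv)
  rcases Nat.eq_zero_or_pos j with rfl | hj0
  · exact h1 (orderOf_eq_one_iff.mp hj)
  · exact no_commute hC hr hr2 (hj ▸ dvd_pow_self 2 hj0.ne') hx hc

/-- Quotients by normal two-subgroups. -/
theorem cit_quotient (hC : CIT G) (Q : Subgroup G) [Q.Normal] (hQ : IsPGroup 2 Q) : CIT (G ⧸ Q) := by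
  haveI : Fact (Nat.Prime 2) := ⟨Nat.prime_two⟩
  intro t ht
  refine IsPGroup.of_card (Nat.eq_prime_pow_of_unique_prime_dvd Nat.card_pos.ne' fun {r} hr hd => ?_)
  by_contra hr2
  haveI := Fact.mk hr
  obtain ⟨c, hc⟩ := exists_prime_orderOf_dvd_card' (G := centralizer ({t} : Set (G ⧸ Q))) r hd
  have hct : (c : G ⧸ Q) * t = t * (c : G ⧸ Q) := mem_centralizer_singleton_iff.mp c.2
  rw [← Subgroup.orderOf_coe] at hc
  obtain ⟨y₀, hy₀⟩ := QuotientGroup.mk'_surjective Q (c : G ⧸ Q)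
  obtain ⟨g₀, hg₀⟩ := QuotientGroup.mk'_surjective Q t
  have hyr : y₀ ^ r ∈ Q := by
    rw [← QuotientGroup.eq_one_iff, ← QuotientGroup.mk'_apply, map_pow, hy₀, ← hc, pow_orderOf_eq_one]
  obtain ⟨i, hi⟩ := hQ ⟨_, hyr⟩
  have hi' : (y₀ ^ r) ^ 2 ^ i = 1 := by simpa using congrArg Subtype.val hi
  set y := y₀ ^ 2 ^ i with hy
  have hyimg : QuotientGroup.mk' Q y = (c : G ⧸ Q) ^ 2 ^ i := by rw [hy, map_pow, hy₀]
  have hy1 : y ≠ 1 := by
    intro e
    rw [e, map_one] at hyimg
    have h := orderOf_dvd_of_pow_eq_one hyimg.symm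
    rw [hc] at h
    exact hr2 ((Nat.prime_dvd_prime_iff_eq hr Nat.prime_two).mp (hr.dvd_of_dvd_pow h))
  have hyo : orderOf y = r := orderOf_eq_prime (by rw [hy, ← pow_mul, mul_comm, pow_mul, hi']) hy1
  -- surjectivity of `q ↦ q y q⁻¹ y⁻¹`
  have hQn : Q.Normal := inferInstance
  let f : Q → Q := fun q => ⟨(q : G) * (y * (q : G)⁻¹ * y⁻¹), mul_mem q.2 (hQn.conj_mem _ (inv_mem q.2) y)⟩
  have hf : Function.Injective f := by
    intro a b e
    have e' : (a : G) * (y * (a : G)⁻¹ * y⁻¹) = (b : G) * (y * (b : G)⁻¹ * y⁻¹) := congrArg Subtype.val e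
    obtain ⟨k, hk⟩ := hQ (b⁻¹ * a)
    have hk' : ((b : G)⁻¹ * (a : G)) ^ 2 ^ k = 1 := by simpa using congrArg Subtype.val hk
    have hcomm : Commute ((b : G)⁻¹ * (a : G)) y := by
      show (b : G)⁻¹ * a * y = y * ((b : G)⁻¹ * a)
      calc (b : G)⁻¹ * a * y = (b : G)⁻¹ * ((a : G) * (y * (a : G)⁻¹ * y⁻¹)) * y * a := by group
        _ = (b : G)⁻¹ * ((b : G) * (y * (b : G)⁻¹ * y⁻¹)) * y * a := by rw [e']
        _ = y * ((b : G)⁻¹ * a) := by group
    exact Subtype.ext (inv_mul_eq_one.mp (fpf hC hr hr2 (hyo.symm.dvd) hk' hcomm)).symm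
  have hcQ : g₀ * y * g₀⁻¹ * y⁻¹ ∈ Q := by
    rw [← QuotientGroup.eq_one_iff, ← QuotientGroup.mk'_apply, map_mul, map_mul, map_mul, map_inv, map_inv, hg₀,
      hyimg]
    have hcomm : Commute t ((c : G ⧸ Q) ^ 2 ^ i) := (Commute.pow_right (hct.symm : Commute t (c : G ⧸ Q)) _)
    rw [hcomm.eq, mul_inv_cancel_right, mul_inv_cancel]
  obtain ⟨q, hq⟩ := Finite.injective_iff_surjective.mp hf ⟨_, hcQ⟩
  have hq' : (q : G) * (y * (q : G)⁻¹ * y⁻¹) = g₀ * y * g₀⁻¹ * y⁻¹ := congrArg Subtype.val hq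
  set g := (q : G)⁻¹ * g₀ with hg
  have hgy : Commute g y := by
    show (q : G)⁻¹ * g₀ * y = y * ((q : G)⁻¹ * g₀)
    calc (q : G)⁻¹ * g₀ * y = (q : G)⁻¹ * (g₀ * y * g₀⁻¹ * y⁻¹) * y * g₀ := by group
      _ = (q : G)⁻¹ * ((q : G) * (y * (q : G)⁻¹ * y⁻¹)) * y * g₀ := by rw [hq']
      _ = y * ((q : G)⁻¹ * g₀) := by group
  have hgimg : QuotientGroup.mk' Q g = t := by
    rw [hg, map_mul, QuotientGroup.mk'_apply, (QuotientGroup.eq_one_iff _).mpr (inv_mem q.2), one_mul,
      hg₀]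
  exact no_commute hC hr hr2 (ht ▸ hgimg ▸ orderOf_map_dvd (QuotientGroup.mk' Q) g) hyo.symm.dvd hgy

/-- The odd core of an insoluble such group is trivial. -/
theorem odd_normal_bot (hC : CIT G) (hns : ¬ Group.IsSolvable G) (N : Subgroup G) [hNn : N.Normal]
    (hN : Odd (Nat.card N)) : N = ⊥ := by
  by_contra hbot
  haveI : Fact (Nat.Prime 2) := ⟨Nat.prime_two⟩
  obtain ⟨t, ht⟩ := exists_prime_orderOf_dvd_card' 2 (two_dvd_card hns)
  have hfree : ∀ x : G, Odd (orderOf x) → ∀ s : G, orderOf s = 2 → s * x = x * s → x = 1 := by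
    intro x hx s hs hsx
    by_contra h1
    obtain ⟨r, hr, hrx⟩ := Nat.exists_prime_and_dvd (show orderOf x ≠ 1 from fun e => h1 (orderOf_eq_one_iff.mp e))
    exact no_commute hC hr (fun e => (Nat.not_even_iff_odd.mpr hx) (even_iff_two_dvd.mpr (e ▸ hrx))) hs.symm.dvd hrx hsx
  set C := centralizer (N : Set G) with hCdef
  haveI hCn : C.Normal := inferInstance
  obtain ⟨v, hv, hv1⟩ : ∃ v ∈ N, v ≠ 1 := by
    by_contra h
    push Not at h
    exact hbot (eq_bot_iff.mpr fun v hv => mem_bot.mpr (h v hv))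
  have hCodd : Odd (Nat.card C) := by
    rcases Nat.even_or_odd (Nat.card C) with h | h
    · exfalso
      obtain ⟨s, hs⟩ := exists_prime_orderOf_dvd_card' (G := C) 2 h.two_dvd
      rw [← Subgroup.orderOf_coe] at hs
      exact hv1 (hfree v (Odd.of_dvd_nat hN (N.orderOf_dvd_natCard hv)) s hs ((s.2 v hv).symm))
    · exact h
  letI := Fintype.ofFinite G
  have inv_of : ∀ (A : Subgroup G) [A.Normal], Odd (Nat.card A) → ∀ x ∈ A, t * x * t⁻¹ = x⁻¹ := fun A hA hodd =>
    BSW.invert_of_fpf ht (by rw [normalizer_eq_top]; trivial)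
      fun x hx h => hfree x (Odd.of_dvd_nat hodd (A.orderOf_dvd_natCard hx)) t ht (mul_inv_eq_iff_eq_mul.mp h)
  have htN := inv_of N hN
  have htC := inv_of C hCodd
  have hCcomm : ∀ a ∈ C, ∀ b ∈ C, a * b = b * a := by
    intro a ha b hb
    have h := htC _ (mul_mem ha hb)
    rw [show t * (a * b) * t⁻¹ = (t * a * t⁻¹) * (t * b * t⁻¹) by group, htC a ha, htC b hb, _root_.mul_inv_rev] at h
    have h' := congrArg (·⁻¹) h
    simp only [_root_.mul_inv_rev, inv_inv] at h'
    exact h'.symm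
  have hcover : ∀ g : G, ∃ c ∈ C, c⁻¹ * g ∈ centralizer ({t} : Set G) := by
    intro g
    have hmem : g * t * g⁻¹ * t⁻¹ ∈ C := by
      intro n hn
      have h1 : t⁻¹ * n * t = n⁻¹ := by
        have h := htN _ (inv_mem hn)
        rw [inv_inv] at h
        conv_lhs => rw [← h]
        group
      have h2 : g * t * g⁻¹ * n⁻¹ * (g * t * g⁻¹)⁻¹ = n := by
        have h := htN (g⁻¹ * n⁻¹ * g) (by simpa using hNn.conj_mem _ (inv_mem hn) g⁻¹)
        calc g * t * g⁻¹ * n⁻¹ * (g * t * g⁻¹)⁻¹ = g * (t * (g⁻¹ * n⁻¹ * g) * t⁻¹) * g⁻¹ := by group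
          _ = n := by rw [h]; group
      have h3 : g * t * g⁻¹ * t⁻¹ * n * (g * t * g⁻¹ * t⁻¹)⁻¹ = n := by
        calc g * t * g⁻¹ * t⁻¹ * n * (g * t * g⁻¹ * t⁻¹)⁻¹
            = g * t * g⁻¹ * (t⁻¹ * n * t) * (g * t * g⁻¹)⁻¹ := by group
          _ = n := by rw [h1, h2]
      exact (mul_inv_eq_iff_eq_mul.mp h3).symm
    obtain ⟨k, hk⟩ := hCodd
    set c := g * t * g⁻¹ * t⁻¹ with hc
    have hc2 : (c ^ (k + 1)) * (c ^ (k + 1)) = c := by
      have h : c ^ (2 * k + 1) = 1 := by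
        rw [← hk]
        exact congrArg Subtype.val (pow_card_eq_one' (G := C) (x := ⟨c, hmem⟩))
      rw [← pow_add, show k + 1 + (k + 1) = 2 * k + 1 + 1 by omega, pow_succ, h, one_mul]
    set d := c ^ (k + 1) with hd
    have hdC : d ∈ C := pow_mem hmem _
    refine ⟨d, hdC, mem_centralizer_singleton_iff.mpr ?_⟩
    have h4 : d * t * d⁻¹ = g * t * g⁻¹ := by
      have h := htC _ (inv_mem hdC)
      rw [inv_inv] at h
      calc d * t * d⁻¹ = d * (t * d⁻¹ * t⁻¹) * t := by group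
        _ = g * t * g⁻¹ := by rw [h, hc2, hc]; group
    calc d⁻¹ * g * t = d⁻¹ * (g * t * g⁻¹) * g := by group
      _ = t * (d⁻¹ * g) := by rw [← h4]; group
  apply hns
  haveI : Group.IsSolvable C := Group.isSolvable_of_comm fun a b => Subtype.ext (hCcomm a a.2 b b.2)
  haveI : Group.IsSolvable (centralizer ({t} : Set G)) := by
    haveI := (hC t ht).isNilpotent
    infer_instance
  haveI : Group.IsSolvable (G ⧸ C) := by
    refine Group.isSolvable_of_surjective (f := (QuotientGroup.mk' C).comp (centralizer ({t} : Set G)).subtype)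
      fun y => ?_
    obtain ⟨g, rfl⟩ := QuotientGroup.mk'_surjective C y
    obtain ⟨c, hc, hcg⟩ := hcover g
    refine ⟨⟨_, hcg⟩, ?_⟩
    show QuotientGroup.mk' C (c⁻¹ * g) = QuotientGroup.mk' C g
    rw [map_mul, QuotientGroup.mk'_apply, (QuotientGroup.eq_one_iff _).mpr (inv_mem hc), one_mul]
  exact (Group.isSolvable_iff_subgroup_quotient C).mpr ⟨inferInstance, inferInstance⟩

/-- Normal soluble subgroups are trivial once the two-core is. -/
theorem solvable_normal_bot (hC : CIT G) (hns : ¬ Group.IsSolvable G) (h2 : Cfsg.pCore 2 G = ⊥) (N : Subgroup G)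
    (hNn : N.Normal) (hN : Group.IsSolvable N) : N = ⊥ := by
  by_contra hbot
  obtain ⟨V, hVn, hVN, hV0, hmin⟩ := CfsgLib.exists_minimal_normal hbot
  haveI : Group.IsSolvable V :=
    Group.isSolvable_of_isSolvable_injective (f := Subgroup.inclusion hVN) (Subgroup.inclusion_injective _)
  obtain ⟨-, p, hp, hVp⟩ := CfsgLib.minimal_normal_elementary hV0 inferInstance hmin
  have hVpg : IsPGroup p V := fun x => ⟨1, Subtype.ext (by simpa using hVp _ x.2)⟩
  haveI := Fact.mk hp
  by_cases hp2 : p = 2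
  · subst hp2
    exact hV0 (eq_bot_iff.mpr ((le_sSup ⟨hVn, hVpg⟩ : V ≤ Cfsg.pCore 2 G).trans h2.le))
  · obtain ⟨i, hi⟩ := IsPGroup.iff_card.mp hVpg
    exact hV0 (odd_normal_bot hC hns V (hi ▸ (hp.odd_of_ne_two hp2).pow))

/-- A simple nonabelian normal subgroup. -/
theorem exists_simple (hC : CIT G) (hns : ¬ Group.IsSolvable G) (h2 : Cfsg.pCore 2 G = ⊥) :
    ∃ M : Subgroup G, M.Normal ∧ IsSimpleGroup M ∧ ¬ IsMulCommutative M := by
  haveI : Nontrivial G := by
    rw [← not_subsingleton_iff_nontrivial]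
    exact fun h => hns inferInstance
  obtain ⟨M, hMn, -, hM0, hmin⟩ := CfsgLib.exists_minimal_normal (N := (⊤ : Subgroup G)) top_ne_bot
  have hrad := solvable_normal_bot hC hns h2
  have hMs : ¬ Group.IsSolvable M := fun h => hM0 (hrad M hMn h)
  have pair : ∀ A B : Subgroup G, ¬ Group.IsSolvable A → ¬ Group.IsSolvable B →
      (∀ a ∈ A, ∀ b ∈ B, Commute a b) → False := by
    intro A B hA hB hc
    haveI : Fact (Nat.Prime 2) := ⟨Nat.prime_two⟩
    obtain ⟨a, ha⟩ := exists_prime_orderOf_dvd_card' (G := A) 2 (two_dvd_card hA)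
    obtain ⟨q, hq, hqB, hq2⟩ : ∃ q : ℕ, q.Prime ∧ q ∣ Nat.card B ∧ q ≠ 2 := by
      by_contra h
      push Not at h
      haveI := (IsPGroup.of_card (Nat.eq_prime_pow_of_unique_prime_dvd Nat.card_pos.ne'
        fun {r} hr hd => h r hr hd) : IsPGroup 2 B).isNilpotent
      exact hB inferInstance
    haveI := Fact.mk hq
    obtain ⟨b, hb⟩ := exists_prime_orderOf_dvd_card' (G := B) q hqB
    exact no_commute hC hq hq2 (by rw [Subgroup.orderOf_coe, ha]) (by rw [Subgroup.orderOf_coe, hb])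
      (hc a a.2 b b.2)
  haveI : Nontrivial M := (Subgroup.nontrivial_iff_ne_bot M).mpr hM0
  refine ⟨M, hMn, ⟨fun T hT => ?_⟩, fun h => hMs (Group.isSolvable_of_comm h.is_comm.comm)⟩
  by_contra hcon
  push Not at hcon
  obtain ⟨S, hSn, hST, hS0, hSmin⟩ := CfsgLib.exists_minimal_normal (hn := hT) hcon.1
  set S' := S.map M.subtype with hS'
  have hS'M : S' ≤ M := Subgroup.map_subtype_le S
  by_cases hnor : S'.Normal
  · rcases hmin S' hnor hS'M with h | h
    · exact hS0 ((Subgroup.map_eq_bot_iff_of_injective S M.subtype_injective).mp h)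
    · refine hcon.2 (top_le_iff.mp ((le_of_eq ?_).trans hST))
      refine Subgroup.map_injective M.subtype_injective ?_
      rw [← hS', h, ← MonoidHom.range_eq_map, Subgroup.range_subtype]
  · have hSs : ¬ Group.IsSolvable S' := by
      intro hs
      obtain ⟨hSc, s, hs', hSexp⟩ := CfsgLib.minimal_normal_elementary hS0 (by
        haveI := hs
        exact Group.isSolvable_of_surjective (f := (Subgroup.equivMapOfInjective S M.subtype M.subtype_injective).symm.toMonoidHom)
          (MulEquiv.surjective _)) hSmin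
      haveI := Fact.mk hs'
      have hSp : IsPGroup s S := fun x => ⟨1, Subtype.ext (by simpa using hSexp _ x.2)⟩
      have hle : S ≤ Cfsg.pCore s M := le_sSup ⟨hSn, hSp⟩
      haveI : (Cfsg.pCore s M).Characteristic := CfsgLib.pCore_characteristic s
      have h0 := hrad ((Cfsg.pCore s M).map M.subtype) inferInstance
        (by haveI := ((CfsgLib.isPGroup_pCore (G := M) s).map M.subtype).isNilpotent; infer_instance)
      rw [Subgroup.map_eq_bot_iff_of_injective _ M.subtype_injective] at h0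
      exact hS0 (eq_bot_iff.mpr (hle.trans h0.le))
    obtain ⟨g, hg⟩ : ∃ g : G, S'.map (MulAut.conj g).toMonoidHom ≠ S' := by
      by_contra h
      push Not at h
      exact hnor ⟨fun x hx g => (h g).le ⟨x, hx, rfl⟩⟩
    set T' := S'.map (MulAut.conj g).toMonoidHom with hT'
    refine pair S' T' hSs ?_ ?_
    · intro hs
      haveI := hs
      exact hSs (Group.isSolvable_of_surjective
        (f := (Subgroup.equivMapOfInjective S' (MulAut.conj g).toMonoidHom (MulAut.conj g).injective).symm.toMonoidHom)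
        (MulEquiv.surjective _))
    · have hT'M : T' ≤ M := by
        rintro _ ⟨x, hx, rfl⟩
        exact hMn.conj_mem x (hS'M hx) g
      have hSnM : ∀ s ∈ S', ∀ m ∈ M, m * s * m⁻¹ ∈ S' := by
        rintro _ ⟨s, hs, rfl⟩ m hm
        exact ⟨⟨m, hm⟩ * s * ⟨m, hm⟩⁻¹, hSn.conj_mem s hs _, by simp⟩
      have hTnM : ∀ t ∈ T', ∀ m ∈ M, m * t * m⁻¹ ∈ T' := by
        rintro _ ⟨s, hs, rfl⟩ m hm
        refine ⟨g⁻¹ * m * g * s * (g⁻¹ * m * g)⁻¹, hSnM s hs _ (by simpa using hMn.conj_mem m hm g⁻¹), ?_⟩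
        simp [mul_assoc]
      have hbot : ∀ x ∈ S', x ∈ T' → x = 1 := by
        intro x hx hx'
        rcases hSmin ((S' ⊓ T').subgroupOf M) ⟨fun y hy m => by
            rw [mem_subgroupOf] at hy ⊢
            push_cast
            exact ⟨hSnM _ hy.1 m m.2, hTnM _ hy.2 m m.2⟩⟩
          (fun y hy => by
            obtain ⟨s, hs, e⟩ := (mem_subgroupOf.mp hy).1
            exact (Subtype.ext e : s = y) ▸ hs) with h | h
        · have : (⟨x, hS'M hx⟩ : M) ∈ (S' ⊓ T').subgroupOf M := ⟨hx, hx'⟩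
          rw [h, mem_bot] at this
          exact congrArg Subtype.val this
        · exfalso
          have hle : S' ≤ T' := by
            rintro _ ⟨s, hs, rfl⟩
            exact (mem_subgroupOf.mp (h.ge hs)).2
          exact hg (eq_of_le_of_card_ge hle (Subgroup.card_map_of_injective (MulAut.conj g).injective).le).symm
      intro a ha b hb
      show a * b = b * a
      rw [← commutatorElement_eq_one_iff_mul_comm]
      refine hbot _ ?_ ?_
      · rw [commutatorElement_def, show a * b * a⁻¹ * b⁻¹ = a * (b * a⁻¹ * b⁻¹) by group]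
        exact mul_mem ha (hSnM _ (inv_mem ha) b (hT'M hb))
      · rw [commutatorElement_def]
        exact mul_mem (hTnM b hb a (hS'M ha)) (inv_mem hb)

end CfsgLib.CITQuot
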