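import Cfsg.Agent.Lib.CITQuot.Basic
import Cfsg.Agent.S1230

/-!
A simple normal subgroup of a group with two-group involution centralisers: elements of odd prime order outside it act
without fixed points on its Sylow two-subgroups, and for elementary abelian involution centralisers it is everything.
-/

set_option autoImplicit false
set_option linter.unusedSectionVars false
set_option linter.style.haveILetI false

namespace CfsgLib.CITQuot

open Subgroup Matrix

universe u

variable {G : Type u} [Group G] [Finite G]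

/-- A prime dividing the index normalises some Sylow subgroup. -/
theorem exists_normalising (N : Subgroup G) [N.Normal] {p r : ℕ} [Fact p.Prime] [hr : Fact r.Prime]
    (hrN : ¬ r ∣ Nat.card N) (hrG : r ∣ Nat.card G) :
    ∃ (P : Sylow p N) (x : G), orderOf x = r ∧ x ∈ normalizer (((P : Subgroup N).map N.subtype : Subgroup G) : Set G) := by
  obtain ⟨P⟩ : Nonempty (Sylow p N) := inferInstance
  set M := normalizer (((P : Subgroup N).map N.subtype : Subgroup G) : Set G) with hM
  have htop : M ⊔ N = ⊤ := Sylow.normalizer_sup_eq_top P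
  have hidx : N.index = N.relIndex M := by rw [← relIndex_sup_right, htop, relIndex_top_right]
  rw [← N.card_mul_index] at hrG
  rcases hr.out.dvd_mul.mp hrG with h | h
  · exact absurd h hrN
  · rw [hidx] at h
    obtain ⟨x, hx⟩ := exists_prime_orderOf_dvd_card' (G := M) r (h.trans (Subgroup.index_dvd_card _))
    exact ⟨P, x, by rw [Subgroup.orderOf_coe, hx], x.2⟩

/-- An invariant two-subgroup has order congruent to one. -/
theorem card_mod (hC : CIT G) {x : G} {r : ℕ} [hr : Fact r.Prime] (hr2 : r ≠ 2) (hx : orderOf x = r)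
    (P : Subgroup G) (hP : IsPGroup 2 P) (hxP : x ∈ normalizer (P : Set G)) : r ∣ Nat.card P - 1 := by
  classical
  let φ : zpowers x →* MulAut P := (normalizerMonoidHom P).comp (Subgroup.inclusion (zpowers_le.mpr hxP))
  letI : MulAction (zpowers x) P := MulAction.compHom P φ
  have hfix : MulAction.fixedPoints (zpowers x) P = {1} := by
    ext v
    simp only [MulAction.mem_fixedPoints, Set.mem_singleton_iff]
    constructor
    · intro h
      have h1 : x * (v : G) * x⁻¹ = v := congrArg Subtype.val (h ⟨x, mem_zpowers x⟩)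
      obtain ⟨i, hi⟩ := hP v
      exact Subtype.ext (fpf hC hr.out hr2 hx.symm.dvd (by simpa using congrArg Subtype.val hi)
        (mul_inv_eq_iff_eq_mul.mp h1).symm)
    · rintro rfl g
      exact map_one (φ g)
  have hq : IsPGroup r (zpowers x) := IsPGroup.of_card (n := 1) (by rw [Nat.card_zpowers, hx, pow_one])
  have h := hq.card_modEq_card_fixedPoints P
  rw [hfix, Nat.card_eq_fintype_card (α := ({1} : Set P)), Set.card_singleton] at h
  exact (Nat.modEq_iff_dvd' Nat.card_pos).mp h.symm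

/-- Irreducible odd action makes a two-subgroup elementary abelian. -/
theorem elementary_of_irreducible (hC : CIT G) {x : G} {r v : ℕ} [hr : Fact r.Prime] (hr2 : r ≠ 2) (hx : orderOf x = r)
    (P : Subgroup G) (hxP : x ∈ normalizer (P : Set G)) (hcard : Nat.card P = 2 ^ v)
    (hmin : ∀ i, 0 < i → i < v → ¬ r ∣ 2 ^ i - 1) :
    (∀ a ∈ P, ∀ b ∈ P, a * b = b * a) ∧ ∀ a ∈ P, a * a = 1 := by
  haveI : Fact (Nat.Prime 2) := ⟨Nat.prime_two⟩
  have hP : IsPGroup 2 P := IsPGroup.of_card hcard
  have hinv : ∀ u ∈ P, x * u * x⁻¹ ∈ P := fun u hu => (mem_normalizer_iff.mp hxP u).mp hu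
  have key : ∀ K : Subgroup G, K ≤ P → (∀ u ∈ K, x * u * x⁻¹ ∈ K) → K ≠ ⊥ → K = P := by
    intro K hKP hK hK0
    have hxK : x ∈ normalizer (K : Set G) := by
      rw [mem_normalizer_iff]
      refine fun u => ⟨hK u, fun hu => ?_⟩
      have hsub : K.map (MulAut.conj x).toMonoidHom = K := eq_of_le_of_card_ge
        (by rintro _ ⟨w, hw, rfl⟩; exact hK w hw) (Subgroup.card_map_of_injective (MulAut.conj x).injective).ge
      obtain ⟨w, hw, e⟩ := hsub.ge hu
      have : w = u := (MulAut.conj x).injective e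
      exact this ▸ hw
    obtain ⟨i, hi, hKc⟩ : ∃ i ≤ v, Nat.card K = 2 ^ i :=
      (Nat.dvd_prime_pow Nat.prime_two).mp (hcard ▸ card_dvd_of_le hKP)
    have h1 := card_mod hC hr2 hx K (hP.to_le hKP) hxK
    rw [hKc] at h1
    rcases Nat.eq_zero_or_pos i with rfl | hi0
    · exact absurd (eq_bot_of_card_eq K (by rw [hKc, pow_zero])) hK0
    · rcases eq_or_lt_of_le hi with rfl | hlt
      · exact eq_of_le_of_card_ge hKP (by rw [hKc, hcard])
      · exact absurd h1 (hmin i hi0 hlt)
  rcases eq_or_ne P ⊥ with hb | hb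
  · subst hb
    exact ⟨fun a ha b _ => by rw [mem_bot.mp ha, one_mul, mul_one], fun a ha => by rw [mem_bot.mp ha, one_mul]⟩
  haveI : Nontrivial P := (nontrivial_iff_ne_bot P).mpr hb
  have hab : ∀ a ∈ P, ∀ b ∈ P, a * b = b * a := by
    have hZ : (center P).map P.subtype = P := by
      refine key _ (map_subtype_le _) ?_ ?_
      · rintro _ ⟨z, hz, rfl⟩
        refine ⟨⟨x * z * x⁻¹, hinv _ z.2⟩, ?_, rfl⟩
        rw [SetLike.mem_coe, mem_center_iff]
        intro w
        have hw' : x⁻¹ * (w : G) * x ∈ P := (mem_normalizer_iff''.mp hxP _).mp w.2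
        have h : (x⁻¹ * (w : G) * x) * z = z * (x⁻¹ * (w : G) * x) := congrArg Subtype.val (mem_center_iff.mp hz ⟨_, hw'⟩)
        refine Subtype.ext ?_
        show (w : G) * (x * z * x⁻¹) = x * z * x⁻¹ * w
        calc (w : G) * (x * z * x⁻¹) = x * ((x⁻¹ * (w : G) * x) * z) * x⁻¹ := by group
          _ = x * z * x⁻¹ * w := by rw [h]; group
      · haveI := hP.center_nontrivial
        rw [ne_eq, map_eq_bot_iff_of_injective _ P.subtype_injective]
        exact (nontrivial_iff_ne_bot _).mp inferInstance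
    intro a ha b hb
    obtain ⟨z, hz, rfl⟩ := hZ.ge ha
    exact (congrArg P.subtype (mem_center_iff.mp hz ⟨b, hb⟩)).symm
  refine ⟨hab, ?_⟩
  let K : Subgroup G :=
    { carrier := {a | a ∈ P ∧ a * a = 1}
      one_mem' := ⟨one_mem P, one_mul 1⟩
      mul_mem' := fun {a b} ha hb => ⟨mul_mem ha.1 hb.1, by
        rw [show a * b * (a * b) = a * (b * a) * b by group, ← hab a ha.1 b hb.1,
          show a * (a * b) * b = (a * a) * (b * b) by group, ha.2, hb.2, one_mul]⟩
      inv_mem' := fun {a} ha => ⟨inv_mem ha.1, by rw [← _root_.mul_inv_rev, ha.2, inv_one]⟩ }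
  have hK : K = P := by
    refine key K (fun a ha => ha.1) (fun u hu => ⟨hinv u hu.1, by
      rw [show x * u * x⁻¹ * (x * u * x⁻¹) = x * (u * u) * x⁻¹ by group, hu.2]; group⟩) ?_
    obtain ⟨i, hi⟩ : 2 ∣ Nat.card P := by
      rcases Nat.eq_zero_or_pos v with rfl | hv
      · exact absurd (eq_bot_of_card_eq P (by rw [hcard, pow_zero])) hb
      · exact hcard ▸ dvd_pow_self 2 hv.ne'
    obtain ⟨a, ha⟩ := exists_prime_orderOf_dvd_card' (G := P) 2 ⟨i, hi⟩
    intro hbot
    have haK : (a : G) ∈ K := ⟨a.2, by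
      have := congrArg Subtype.val (pow_orderOf_eq_one a)
      rw [ha, pow_two] at this
      simpa using this⟩
    rw [hbot, mem_bot] at haK
    rw [show a = 1 from Subtype.ext haK, orderOf_one] at ha
    omega
  intro a ha
  rw [← hK] at ha
  exact ha.2

/-- A prime outside the socle acting irreducibly makes the socle a two-dimensional linear group. -/
theorem psl_of_irreducible (hC : CIT G) (N : Subgroup G) [N.Normal] [IsSimpleGroup N] (hN : ¬ IsMulCommutative N)
    {r v : ℕ} [hr : Fact r.Prime] (hr2 : r ≠ 2) (hrN : ¬ r ∣ Nat.card N) (hrG : r ∣ Nat.card G)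
    (hv : (Nat.card N).factorization 2 = v) (hmin : ∀ i, 0 < i → i < v → ¬ r ∣ 2 ^ i - 1) :
    ∃ (F : Type) (_ : Field F) (_ : Fintype F), Fintype.card F = 2 ^ v ∧
      Nonempty (N ≃* Matrix.ProjectiveSpecialLinearGroup (Fin 2) F) := by
  haveI : Fact (Nat.Prime 2) := ⟨Nat.prime_two⟩
  obtain ⟨P, x, hx, hxP⟩ := exists_normalising N (p := 2) hrN hrG
  have hPc : Nat.card (P : Subgroup N) = 2 ^ v := by rw [P.card_eq_multiplicity, hv]
  have hPc' : Nat.card ((P : Subgroup N).map N.subtype) = 2 ^ v := by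
    rw [Subgroup.card_map_of_injective N.subtype_injective, hPc]
  obtain ⟨hab, hsq⟩ := elementary_of_irreducible hC hr2 hx _ hxP hPc' hmin
  have hnns : ¬ Group.IsSolvable N := fun h => by
    rcases IsSimpleGroup.eq_bot_or_eq_top_of_normal _ (inferInstance : (_root_.commutator N).Normal) with h' | h'
    · exact hN ⟨⟨fun a b => by rw [← commutatorElement_eq_one_iff_mul_comm, ← mem_bot (G := N), ← h', _root_.commutator_def]; exact commutator_mem_commutator (mem_top a) (mem_top b)⟩⟩
    · exact Group.IsSolvable.commutator_lt_top_of_nontrivial (G := N) |>.ne h'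
  have hPsq : ∀ (Q : Sylow 2 N) (a : N), a ∈ Q → a * a = 1 := by
    intro Q a ha
    obtain ⟨g, hg⟩ := MulAction.exists_smul_eq N P Q
    rw [← hg, ← SetLike.mem_coe, Sylow.coe_smul] at ha
    obtain ⟨b, hb, rfl⟩ := ha
    have h : b * b = 1 := Subtype.ext (hsq _ ⟨b, hb, rfl⟩)
    show g * b * g⁻¹ * (g * b * g⁻¹) = 1
    rw [show g * b * g⁻¹ * (g * b * g⁻¹) = g * (b * b) * g⁻¹ by group, h, mul_one, mul_inv_cancel]
  have hnc : ¬ IsCyclic (P : Subgroup N) := by
    intro hcyc
    obtain ⟨a, ha⟩ := isCyclic_iff_exists_orderOf_eq_natCard.mp hcyc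
    have ha2 : a ^ 2 = 1 := by rw [pow_two]; exact Subtype.ext (hPsq P a a.2)
    have h2 := orderOf_dvd_of_pow_eq_one ha2
    rw [ha, hPc] at h2
    have hv1 : v ≤ 1 := by
      by_contra hcon
      have := Nat.le_of_dvd (by norm_num) h2
      have : 2 ^ 2 ≤ 2 ^ v := Nat.pow_le_pow_right (by norm_num) (by omega)
      omega
    have h1 := card_mod hC hr2 hx _ (IsPGroup.of_card hPc') hxP
    rw [hPc'] at h1
    interval_cases v
    · have h2N := two_dvd_card hnns
      have := (Nat.prime_two.dvd_iff_one_le_factorization Nat.card_pos.ne').mp h2N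
      omega
    · exact hr.out.one_lt.ne' (Nat.dvd_one.mp h1)
  have hnn : ¬ (P : Subgroup N).Normal := by
    intro hn
    rcases IsSimpleGroup.eq_bot_or_eq_top_of_normal _ hn with h | h
    · exact hnc (h ▸ inferInstance)
    · refine hnns ?_
      haveI : Group.IsSolvable (P : Subgroup N) := by
        haveI := P.2.isNilpotent
        infer_instance
      exact Group.isSolvable_of_surjective (f := (P : Subgroup N).subtype) fun y => ⟨⟨y, h ▸ mem_top y⟩, rfl⟩
  have hcomm : ∀ t : N, orderOf t = 2 → IsMulCommutative (centralizer ({t} : Set N)) ∧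
      ∀ c ∈ centralizer ({t} : Set N), c ^ 2 = 1 := by
    intro t ht
    obtain ⟨Q, hQ⟩ := (cit_subgroup hC N t ht).exists_le_sylow
    have hsqc : ∀ c ∈ centralizer ({t} : Set N), c * c = 1 := fun c hc => hPsq Q c (hQ hc)
    refine ⟨⟨⟨fun a b => Subtype.ext ?_⟩⟩, fun c hc => by rw [pow_two]; exact hsqc c hc⟩
    have h1 := hsqc _ (mul_mem a.2 b.2)
    have ha := inv_eq_of_mul_eq_one_right (hsqc _ a.2)
    have hb := inv_eq_of_mul_eq_one_right (hsqc _ b.2)
    have := inv_eq_of_mul_eq_one_right h1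
    rw [_root_.mul_inv_rev, ha, hb] at this
    exact this.symm
  obtain ⟨F, i1, i2, hF, he⟩ := Cfsg.Agent.S1230.result P hnc hnn hcomm
  exact ⟨F, i1, i2, by rw [hF, hPc], he⟩

/-- Two non-conjugate involutions commute with a common involution. -/
theorem exists_third {t u : G} (ht : orderOf t = 2) (hu : orderOf u = 2) (hne : ¬ IsConj t u) :
    ∃ z : G, orderOf z = 2 ∧ Commute z t ∧ Commute z u := by
  have ht2 : t * t = 1 := by rw [← pow_two, ← ht, pow_orderOf_eq_one]
  have hu2 : u * u = 1 := by rw [← pow_two, ← hu, pow_orderOf_eq_one]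
  have hti : t⁻¹ = t := inv_eq_of_mul_eq_one_right ht2
  have hui : u⁻¹ = u := inv_eq_of_mul_eq_one_right hu2
  set a := t * u with ha
  have hinvt : t * a * t⁻¹ = a⁻¹ := by rw [ha, _root_.mul_inv_rev, hui, hti, ← mul_assoc, ht2, one_mul]
  have hconjpow : ∀ k : ℕ, t * a ^ k * t⁻¹ = (a ^ k)⁻¹ := fun k => by
    rw [← inv_pow, ← hinvt, conj_pow]
  rcases Nat.even_or_odd (orderOf a) with ⟨k, hk⟩ | ⟨k, hk⟩
  · set z := a ^ k with hz
    have hz2 : z * z = 1 := by rw [hz, ← pow_add, ← hk, pow_orderOf_eq_one]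
    have hz1 : z ≠ 1 := by
      intro e
      have h1 := orderOf_dvd_of_pow_eq_one e
      have h2 := orderOf_pos a
      have := Nat.le_of_dvd (by omega) h1
      omega
    have hzt : Commute z t := by
      have h := hconjpow k
      rw [← hz, inv_eq_of_mul_eq_one_right hz2] at h
      exact (mul_inv_eq_iff_eq_mul.mp h).symm
    refine ⟨z, orderOf_eq_prime (by rw [pow_two, hz2]) hz1, hzt, ?_⟩
    have hza : Commute z a := (Commute.refl a).pow_left k
    have : u = t * a := by rw [ha, ← mul_assoc, ht2, one_mul]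
    rw [this]
    exact hzt.mul_right hza
  · exfalso
    refine hne (isConj_iff.mpr ⟨a ^ k, ?_⟩)
    have h1 : a ^ (2 * k + 1) = 1 := hk ▸ pow_orderOf_eq_one a
    have h := hconjpow k
    calc a ^ k * t * (a ^ k)⁻¹ = a ^ k * t * (t * a ^ k * t⁻¹) := by rw [h]
      _ = a ^ k * (t * t) * a ^ k * t⁻¹ := by group
      _ = a ^ (2 * k) * t := by rw [ht2, hti, mul_one, ← pow_add, two_mul]
      _ = a⁻¹ * t := by rw [eq_inv_of_mul_eq_one_left (show a ^ (2 * k) * a = 1 by rw [← pow_succ]; exact h1)]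
      _ = u := by rw [ha, _root_.mul_inv_rev, hui, hti, mul_assoc, ht2, mul_one]

/-- With elementary abelian involution centralisers and Sylow two-subgroups of order above four the socle is all. -/
theorem index_one (hC : CIT G) (N : Subgroup G) [N.Normal] [IsSimpleGroup N] (hN : ¬ IsMulCommutative N)
    (hE : ∀ t : N, orderOf t = 2 → ∀ c ∈ centralizer ({t} : Set N), c * c = 1)
    (h8 : 8 ∣ Nat.card N) : N.index = 1 := by
  classical
  haveI : Fact (Nat.Prime 2) := ⟨Nat.prime_two⟩
  have hcomm : ∀ t : N, orderOf t = 2 → ∀ a ∈ centralizer ({t} : Set N), ∀ b ∈ centralizer ({t} : Set N),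
      a * b = b * a := by
    intro t ht a ha b hb
    have h1 := hE t ht _ (mul_mem ha hb)
    have h := inv_eq_of_mul_eq_one_right h1
    rw [_root_.mul_inv_rev, inv_eq_of_mul_eq_one_right (hE t ht a ha), inv_eq_of_mul_eq_one_right (hE t ht b hb)] at h
    exact h.symm
  have hself : ∀ t : N, t ∈ centralizer ({t} : Set N) := fun t => mem_centralizer_singleton_iff.mpr rfl
  have hsame : ∀ t z : N, orderOf t = 2 → orderOf z = 2 → Commute z t →
      centralizer ({t} : Set N) = centralizer ({z} : Set N) := by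
    intro t z ht hz hzt
    refine le_antisymm (fun c hc => mem_centralizer_singleton_iff.mpr ?_) fun c hc => mem_centralizer_singleton_iff.mpr ?_
    · exact hcomm t ht c hc z (mem_centralizer_singleton_iff.mpr hzt)
    · exact hcomm z hz c hc t (mem_centralizer_singleton_iff.mpr hzt.symm)
  have hconjC : ∀ g t : N, centralizer ({g * t * g⁻¹} : Set N) =
      (centralizer ({t} : Set N)).map (MulAut.conj g).toMonoidHom := by
    intro g t
    ext c
    rw [mem_centralizer_singleton_iff]
    constructor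
    · intro h
      refine ⟨g⁻¹ * c * g, mem_centralizer_singleton_iff.mpr ?_, by
        show g * (g⁻¹ * c * g) * g⁻¹ = c; group⟩
      calc g⁻¹ * c * g * t = g⁻¹ * (c * (g * t * g⁻¹)) * g := by group
        _ = t * (g⁻¹ * c * g) := by rw [h]; group
    · rintro ⟨d, hd, rfl⟩
      have h := mem_centralizer_singleton_iff.mp hd
      show g * d * g⁻¹ * (g * t * g⁻¹) = g * t * g⁻¹ * (g * d * g⁻¹)
      calc g * d * g⁻¹ * (g * t * g⁻¹) = g * (d * t) * g⁻¹ := by group
        _ = _ := by rw [h]; group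
  have hone : ∀ t u : N, orderOf t = 2 → orderOf u = 2 → IsConj t u := by
    intro t u ht hu
    by_contra hne
    have hCC : ∀ t u : N, orderOf t = 2 → orderOf u = 2 → ¬ IsConj t u →
        centralizer ({t} : Set N) = centralizer ({u} : Set N) := by
      intro t u ht hu hne
      obtain ⟨z, hz, hzt, hzu⟩ := exists_third ht hu hne
      exact (hsame t z ht hz hzt).trans (hsame u z hu hz hzu).symm
    obtain ⟨g, hg⟩ : ∃ g : N, centralizer ({g * t * g⁻¹} : Set N) ≠ centralizer ({t} : Set N) := by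
      by_contra h
      push Not at h
      have hn : (centralizer ({t} : Set N)).Normal :=
        ⟨fun c hc g => by
          have h' := (hconjC g t).symm.trans (h g)
          exact h'.le ⟨c, hc, rfl⟩⟩
      rcases IsSimpleGroup.eq_bot_or_eq_top_of_normal _ hn with h' | h'
      · have := h'.le (hself t)
        rw [mem_bot] at this
        rw [this, orderOf_one] at ht
        omega
      · exact hN ⟨⟨fun a b => hcomm t ht a (h' ▸ mem_top a) b (h' ▸ mem_top b)⟩⟩
    have hgt : IsConj t (g * t * g⁻¹) := isConj_iff.mpr ⟨g, rfl⟩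
    have hgo : orderOf (g * t * g⁻¹) = 2 := by
      rw [← MulAut.conj_apply, MulEquiv.orderOf_eq, ht]
    exact hg ((hCC _ u hgo hu fun h => hne (hgt.trans h)).trans (hCC t u ht hu hne).symm)
  obtain ⟨t, ht⟩ := exists_prime_orderOf_dvd_card' (G := N) 2 (dvd_trans (by norm_num) h8)
  have htG : orderOf (t : G) = 2 := by rw [Subgroup.orderOf_coe, ht]
  set C := centralizer ({(t : G)} : Set G) with hCdef
  have hC2 : IsPGroup 2 C := hC _ htG
  have hfac : ∀ g : G, ∃ n : N, (n : G)⁻¹ * g ∈ C := by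
    intro g
    have hmem : g * (t : G) * g⁻¹ ∈ N := (inferInstance : N.Normal).conj_mem _ t.2 g
    have ho : orderOf (⟨_, hmem⟩ : N) = 2 := by
      rw [← Subgroup.orderOf_coe]
      show orderOf (g * (t : G) * g⁻¹) = 2
      rw [← MulAut.conj_apply, MulEquiv.orderOf_eq, htG]
    obtain ⟨n, hn⟩ := isConj_iff.mp (hone t ⟨_, hmem⟩ ht ho)
    have hn' : (n : G) * t * (n : G)⁻¹ = g * t * g⁻¹ := congrArg Subtype.val hn
    refine ⟨n, mem_centralizer_singleton_iff.mpr ?_⟩
    calc (n : G)⁻¹ * g * t = (n : G)⁻¹ * (g * t * g⁻¹) * g := by group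
      _ = t * ((n : G)⁻¹ * g) := by rw [← hn']; group
  by_contra hidx
  haveI : N.Normal := inferInstance
  set π := (QuotientGroup.mk' N).comp C.subtype with hπ
  have hπs : Function.Surjective π := by
    intro y
    obtain ⟨g, rfl⟩ := QuotientGroup.mk'_surjective N y
    obtain ⟨n, hn⟩ := hfac g
    refine ⟨⟨_, hn⟩, ?_⟩
    show QuotientGroup.mk' N ((n : G)⁻¹ * g) = QuotientGroup.mk' N g
    rw [map_mul, QuotientGroup.mk'_apply, (QuotientGroup.eq_one_iff _).mpr (inv_mem n.2), one_mul]
  have h2q : 2 ∣ Nat.card (G ⧸ N) := by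
    obtain ⟨j, hj⟩ := IsPGroup.iff_card.mp (hC2.of_surjective π hπs)
    rw [hj]
    refine dvd_pow_self 2 fun e => hidx ?_
    rw [Subgroup.index_eq_card, hj, e, pow_zero]
  obtain ⟨ybar, hybar⟩ := exists_prime_orderOf_dvd_card' 2 h2q
  obtain ⟨⟨y, hyC⟩, hy⟩ := hπs ybar
  have hyN : y ∉ N := fun h => by
    have : ybar = 1 := by rw [← hy]; exact (QuotientGroup.eq_one_iff y).mpr h
    rw [this, orderOf_one] at hybar
    omega
  have hy2N : y * y ∈ N := by
    have : QuotientGroup.mk' N (y * y) = 1 := by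
      rw [map_mul, show QuotientGroup.mk' N y = ybar from hy, ← pow_two, ← hybar, pow_orderOf_eq_one]
    exact (QuotientGroup.eq_one_iff _).mp this
  -- the Sylow subgroup of the socle through `t`
  set P₀ := centralizer ({t} : Set N) with hP₀
  set P := P₀.map N.subtype with hP
  have hPmem : ∀ a : G, a ∈ P ↔ a ∈ N ∧ a * t = t * a := by
    intro a
    constructor
    · rintro ⟨b, hb, rfl⟩
      exact ⟨b.2, congrArg Subtype.val (mem_centralizer_singleton_iff.mp hb)⟩
    · rintro ⟨ha, hat⟩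
      exact ⟨⟨a, ha⟩, mem_centralizer_singleton_iff.mpr (Subtype.ext hat), rfl⟩
  have hyt : y * t = t * y := mem_centralizer_singleton_iff.mp hyC
  have hPy : ∀ a ∈ P, y * a * y⁻¹ ∈ P := by
    intro a ha
    rw [hPmem] at ha ⊢
    refine ⟨(inferInstance : N.Normal).conj_mem _ ha.1 y, ?_⟩
    have hyi : y⁻¹ * (t : G) = t * y⁻¹ := by
      rw [inv_mul_eq_iff_eq_mul, ← mul_assoc, hyt, mul_inv_cancel_right]
    calc y * a * y⁻¹ * t = y * a * (y⁻¹ * t) := by group
      _ = y * (a * t) * y⁻¹ := by rw [hyi]; group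
      _ = y * t * (a * y⁻¹) := by rw [ha.2]; group
      _ = t * (y * a * y⁻¹) := by rw [hyt]; group
  have hPab : ∀ a ∈ P, ∀ b ∈ P, a * b = b * a := by
    rintro _ ⟨a, ha, rfl⟩ _ ⟨b, hb, rfl⟩
    exact congrArg Subtype.val (hcomm t ht a ha b hb)
  have hy2P : y * y ∈ P := by
    rw [hPmem]
    exact ⟨hy2N, by rw [mul_assoc, hyt, ← mul_assoc, hyt, mul_assoc]⟩
  have hQle : ∀ Q : Sylow 2 N, t ∈ Q → ∀ q ∈ Q, q ∈ P₀ := by
    intro Q htQ q hq
    haveI : Nontrivial (Q : Subgroup N) := (nontrivial_iff_ne_bot _).mpr fun h => by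
      have := h.le htQ
      rw [mem_bot] at this
      rw [this, orderOf_one] at ht
      omega
    haveI := Q.2.center_nontrivial
    obtain ⟨z, hz⟩ := exists_prime_orderOf_dvd_card' (G := center (Q : Subgroup N)) 2 (by
      obtain ⟨i, hi⟩ := IsPGroup.iff_card.mp (Q.2.to_subgroup (center (Q : Subgroup N)))
      rw [hi]
      refine dvd_pow_self 2 fun e => ?_
      rw [e, pow_zero] at hi
      exact Finite.one_lt_card.ne' hi)
    have hzo : orderOf (((z : (Q : Subgroup N))) : N) = 2 := by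
      rw [Subgroup.orderOf_coe, Subgroup.orderOf_coe, hz]
    have hQz : ∀ a ∈ (Q : Subgroup N), a ∈ centralizer ({(((z : (Q : Subgroup N))) : N)} : Set N) :=
      fun a ha => mem_centralizer_singleton_iff.mpr
        (congrArg Subtype.val (mem_center_iff.mp z.2 ⟨a, ha⟩))
    rw [hP₀, mem_centralizer_singleton_iff]
    exact hcomm _ hzo q (hQz q hq) t (hQz t htQ)
  -- only two fixed points
  have hfixed : ∀ a ∈ P, y * a * y⁻¹ = a → a = 1 ∨ a = t := by
    intro a ha hya
    obtain ⟨a₀, ha₀, rfl⟩ := ha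
    by_cases ha1 : a₀ = 1
    · left; rw [ha1, map_one]
    right
    have hao : orderOf a₀ = 2 := orderOf_eq_prime (by rw [pow_two]; exact hE t ht a₀ ha₀) ha1
    obtain ⟨n, hn⟩ := isConj_iff.mp (hone t a₀ ht hao)
    have hn' : (n : G) * t * (n : G)⁻¹ = a₀ := congrArg Subtype.val hn
    have hnorm : n ∈ normalizer (P₀ : Set N) := by
      have hCa : centralizer ({a₀} : Set N) = P₀ :=
        (hsame t a₀ ht hao (mem_centralizer_singleton_iff.mp ha₀)).symm
      have h := hconjC n t
      rw [hn, hCa] at h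
      rw [mem_normalizer_iff]
      intro b
      constructor
      · intro hb; exact h.ge ⟨b, hb, rfl⟩
      · intro hb
        obtain ⟨c, hc, e⟩ := h.le hb
        have : c = b := (MulAut.conj n).injective e
        exact this ▸ hc
    set H := normalizer (P : Set G) with hH
    have hyH : y ∈ H := by
      rw [hH, mem_normalizer_iff]
      refine fun a => ⟨hPy a, fun h => ?_⟩
      have := hPy _ h
      have e : y * (y * a * y⁻¹) * y⁻¹ = (y * y) * a * (y * y)⁻¹ := by group
      rw [e] at this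
      have h2 := mul_mem (mul_mem (inv_mem hy2P) this) hy2P
      simpa [mul_assoc] using h2
    have hnH : (n : G) ∈ H := le_normalizer_map N.subtype ⟨n, hnorm, rfl⟩
    haveI : (P.subgroupOf H).Normal := normal_subgroupOf_iff_le_normalizer le_normalizer |>.mpr le_rfl
    have hP2 : IsPGroup 2 P := ((cit_subgroup hC N t ht).map N.subtype)
    have hCITq := cit_quotient (cit_subgroup hC H) (P.subgroupOf H)
      (hP2.comap_of_injective H.subtype H.subtype_injective)
    set ρ := QuotientGroup.mk' (P.subgroupOf H) with hρ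
    have hρy : orderOf (ρ ⟨y, hyH⟩) = 2 := by
      refine orderOf_eq_prime ?_ ?_
      · rw [← map_pow, hρ, QuotientGroup.mk'_apply, QuotientGroup.eq_one_iff, mem_subgroupOf]
        simpa [pow_two] using hy2P
      · rw [hρ, ne_eq, QuotientGroup.mk'_apply, QuotientGroup.eq_one_iff, mem_subgroupOf]
        exact fun h => hyN ((hPmem y).mp h).1
    have hcm : Commute (ρ ⟨y, hyH⟩) (ρ ⟨n, hnH⟩) := by
      show ρ ⟨y, hyH⟩ * ρ ⟨n, hnH⟩ = ρ ⟨n, hnH⟩ * ρ ⟨y, hyH⟩
      rw [← map_mul, ← map_mul, hρ, QuotientGroup.mk'_apply, QuotientGroup.mk'_apply, QuotientGroup.eq,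
        mem_subgroupOf]
      show (y * (n : G))⁻¹ * ((n : G) * y) ∈ P
      have hm : y * (n : G) * y⁻¹ ∈ N := (inferInstance : N.Normal).conj_mem _ n.2 y
      have hmt : (n : G)⁻¹ * (y * (n : G) * y⁻¹) ∈ P := by
        rw [hPmem]
        refine ⟨mul_mem (inv_mem n.2) hm, ?_⟩
        have h1 : y * (n : G) * y⁻¹ * t * (y * (n : G) * y⁻¹)⁻¹ = a₀ := by
          have hyi : y⁻¹ * (t : G) * y = t := by rw [mul_assoc, ← hyt, inv_mul_cancel_left]
          calc y * (n : G) * y⁻¹ * t * (y * (n : G) * y⁻¹)⁻¹ = y * ((n : G) * (y⁻¹ * t * y) * (n : G)⁻¹) * y⁻¹ := by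
                group
            _ = a₀ := by rw [hyi, hn']; exact hya
        calc (n : G)⁻¹ * (y * (n : G) * y⁻¹) * t
            = (n : G)⁻¹ * (y * (n : G) * y⁻¹ * t * (y * (n : G) * y⁻¹)⁻¹) * (y * (n : G) * y⁻¹) := by group
          _ = t * ((n : G)⁻¹ * (y * (n : G) * y⁻¹)) := by rw [h1, ← hn']; group
      have e : (y * (n : G))⁻¹ * ((n : G) * y) = y⁻¹ * ((y * (n : G) * y⁻¹)⁻¹ * (n : G)) * y := by group
      rw [e]
      have h2 := inv_mem hmt
      rw [_root_.mul_inv_rev, inv_inv] at h2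
      exact (mem_normalizer_iff''.mp hyH _).mp h2
    obtain ⟨j, hj⟩ : ∃ j, (ρ ⟨n, hnH⟩) ^ 2 ^ j = 1 := by
      obtain ⟨j, hj⟩ := hCITq _ hρy ⟨ρ ⟨n, hnH⟩, mem_centralizer_singleton_iff.mpr hcm.symm.eq⟩
      exact ⟨j, by simpa using congrArg Subtype.val hj⟩
    rw [← map_pow, hρ, QuotientGroup.mk'_apply, QuotientGroup.eq_one_iff, mem_subgroupOf] at hj
    have hnP : n ∈ P₀ := by
      have hP₀2 : IsPGroup 2 P₀ := cit_subgroup hC N t ht
      have hn2 : IsPGroup 2 (zpowers n) := by
        obtain ⟨c, hc, e⟩ := hj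
        have e' : c = n ^ 2 ^ j := Subtype.ext (by simpa using e)
        have h1 : n ^ 2 ^ (j + 1) = 1 := by
          rw [pow_succ, pow_mul, pow_two]; exact hE t ht _ (e' ▸ hc)
        refine IsPGroup.of_card (n := _) (Nat.eq_prime_pow_of_unique_prime_dvd Nat.card_pos.ne' fun {d} hd hdd => ?_)
        rw [Nat.card_zpowers] at hdd
        exact (Nat.prime_dvd_prime_iff_eq hd Nat.prime_two).mp
          (hd.dvd_of_dvd_pow (hdd.trans (orderOf_dvd_of_pow_eq_one h1)))
      obtain ⟨Q, hQ⟩ := (hP₀2.to_sup_of_normal_left' hn2 (zpowers_le.mpr hnorm)).exists_le_sylow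
      exact hQle Q (hQ (mem_sup_left (hself t))) n (hQ (mem_sup_right (mem_zpowers n)))
    have e : n * t * n⁻¹ = t := by
      rw [mul_inv_eq_iff_eq_mul]
      exact mem_centralizer_singleton_iff.mp hnP
    exact congrArg Subtype.val (hn.symm.trans e)
  -- counting
  have hPc : 8 ≤ Nat.card P := by
    rw [hP, Subgroup.card_map_of_injective N.subtype_injective]
    obtain ⟨Q, hQ⟩ := (cit_subgroup hC N t ht).exists_le_sylow
    have hQeq : (Q : Subgroup N) = P₀ := le_antisymm (fun q hq => hQle Q (hQ (hself t)) q hq) hQ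
    rw [← hQeq]
    exact Nat.le_of_dvd Nat.card_pos (Q.pow_dvd_card_of_pow_dvd_card (n := 3) h8)
  let ψ : P →* P :=
    { toFun := fun a => ⟨(a : G) * (y * a * y⁻¹), mul_mem a.2 (hPy a a.2)⟩
      map_one' := Subtype.ext (by simp)
      map_mul' := fun a b => Subtype.ext (by
        show (a : G) * b * (y * ((a : G) * b) * y⁻¹) = (a : G) * (y * a * y⁻¹) * ((b : G) * (y * b * y⁻¹))
        calc (a : G) * b * (y * ((a : G) * b) * y⁻¹) = (a : G) * ((b : G) * (y * a * y⁻¹)) * (y * b * y⁻¹) := by group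
          _ = (a : G) * ((y * a * y⁻¹) * b) * (y * b * y⁻¹) := by rw [hPab _ b.2 _ (hPy a a.2)]
          _ = _ := by group) }
  have hsqP : ∀ a ∈ P, a * a = 1 := by
    rintro _ ⟨a, ha, rfl⟩
    exact congrArg Subtype.val (hE t ht a ha)
  have hfix2 : ∀ a : P, a ∈ ψ.ker ∨ a ∈ ψ.range → (a : G) = 1 ∨ (a : G) = t := by
    rintro a (ha | ⟨b, rfl⟩)
    · refine hfixed _ a.2 ?_
      have h : (a : G) * (y * a * y⁻¹) = 1 := congrArg Subtype.val (MonoidHom.mem_ker.mp ha)
      rw [← inv_eq_of_mul_eq_one_right h, inv_eq_of_mul_eq_one_right (hsqP _ a.2)]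
    · refine hfixed _ (ψ b).2 ?_
      show y * ((b : G) * (y * b * y⁻¹)) * y⁻¹ = (b : G) * (y * b * y⁻¹)
      calc y * ((b : G) * (y * b * y⁻¹)) * y⁻¹ = y * b * y⁻¹ * ((y * y) * b * (y * y)⁻¹) := by group
        _ = y * b * y⁻¹ * b := by rw [hPab _ hy2P _ b.2]; group
        _ = (b : G) * (y * b * y⁻¹) := hPab _ (hPy b b.2) _ b.2
  have hsmall : ∀ K : Subgroup P, (∀ a ∈ K, (a : G) = 1 ∨ (a : G) = t) → Nat.card K ≤ 2 := by
    intro K hK
    let f : K → Bool := fun a => decide (((a : P) : G) = 1)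
    have hf : Function.Injective f := by
      intro a b e
      simp only [f, decide_eq_decide] at e
      refine Subtype.ext (Subtype.ext ?_)
      rcases hK a a.2 with h | h <;> rcases hK b b.2 with h' | h' <;> rw [h, h'] at e ⊢
      · exact (e.mp rfl).symm
      · exact e.mpr rfl
    have := Nat.card_le_card_of_injective f hf
    simpa using this
  have h1 := hsmall ψ.ker fun a ha => hfix2 a (Or.inl ha)
  have h2 := hsmall ψ.range fun a ha => hfix2 a (Or.inr ha)
  have h3 : Nat.card P = ψ.ker.index * Nat.card ψ.ker := (index_mul_card _).symm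
  rw [Subgroup.index_ker] at h3
  have := Nat.mul_le_mul h2 h1
  omega

end CfsgLib.CITQuot
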