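import Cfsg.Prelude.Def_Exceptional
import Cfsg.Agent.Lib.CITQuot.Socle
import Cfsg.Agent.Lib.HallSolvable
import Cfsg.Agent.Lib.EppoAlmost.List
import Cfsg.Agent.S2904

/-!
The prime graph of a two-dimensional linear group in even characteristic determines the group modulo its two-core,
given the list of simple groups with two-group involution centralisers.
-/

set_option autoImplicit false
set_option linter.unusedSectionVars false
set_option linter.style.haveILetI false

namespace CfsgLib.CITQuot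

open Subgroup Matrix

universe u

/-- The list of the simple groups with two-group involution centralisers, as a proposition. -/
def SimpleCIT : Prop :=
  ∀ (X : Type u) [Group X] [Finite X] [IsSimpleGroup X], (∃ a b : X, a * b ≠ b * a) → CIT X →
    (∃ (F : Type) (_ : Field F) (_ : Fintype F),
        (Fintype.card F = 9 ∨ (∃ n : ℕ, Fintype.card F = 2 ^ n) ∨
          ((Fintype.card F).Prime ∧ ∃ k : ℕ, Fintype.card F = 2 ^ k + 1 ∨ Fintype.card F + 1 = 2 ^ k)) ∧
        Nonempty (X ≃* Matrix.ProjectiveSpecialLinearGroup (Fin 2) F)) ∨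
    (∃ (F : Type) (_ : Field F) (_ : Fintype F), Fintype.card F = 4 ∧
        Nonempty (X ≃* Matrix.ProjectiveSpecialLinearGroup (Fin 3) F)) ∨
    Cfsg.IsSuzuki X

theorem primitive (n : ℕ) (hn : 1 < n) (h6 : n ≠ 6) :
    ∃ r : ℕ, r.Prime ∧ r ∣ 2 ^ n - 1 ∧ ∀ k : ℕ, 0 < k → k < n → ¬ r ∣ 2 ^ k - 1 :=
  Cfsg.Agent.S2904.result 2 n (by norm_num) hn (fun h => h6 h.2) fun ⟨_, m, hm⟩ => by
    rcases Nat.eq_zero_or_pos m with rfl | hm0
    · norm_num at hm
    · have h := dvd_pow_self 2 hm0.ne'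
      omega

theorem ord_dvd {r n j : ℕ} (hn : 0 < n) (h : r ∣ 2 ^ n - 1) (hmin : ∀ k : ℕ, 0 < k → k < n → ¬ r ∣ 2 ^ k - 1)
    (hj : r ∣ 2 ^ j - 1) : n ∣ j := by
  have h1 : r ∣ 2 ^ Nat.gcd n j - 1 := by rw [← Nat.pow_sub_one_gcd_pow_sub_one]; exact Nat.dvd_gcd h hj
  rcases eq_or_lt_of_le (Nat.gcd_le_left j hn) with e | e
  · exact e ▸ Nat.gcd_dvd_right n j
  · exact absurd h1 (hmin _ (Nat.gcd_pos_of_pos_left j hn) e)

theorem two_not_dvd_pow_sub_one {j : ℕ} (hj : 0 < j) : ¬ 2 ∣ 2 ^ j - 1 := by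
  intro h
  have := dvd_pow_self 2 hj.ne'
  have := Nat.one_le_two_pow (n := j)
  omega

theorem sq_sub_one_eq (m : ℕ) : (2 ^ m) ^ 2 - 1 = 2 ^ (2 * m) - 1 := by rw [← pow_mul, mul_comm]

theorem dvd_double {m r : ℕ} (h : r ∣ 2 ^ m - 1 ∨ r ∣ 2 ^ m + 1) : r ∣ 2 ^ (2 * m) - 1 := by
  have e : 2 ^ (2 * m) - 1 = (2 ^ m + 1) * (2 ^ m - 1) := by
    rw [mul_comm 2 m, pow_mul, ← Nat.sq_sub_sq, one_pow]
  rcases h with h | h
  · exact e ▸ h.mul_left _
  · exact e ▸ h.mul_right _

theorem dvd_of_double {m r : ℕ} (hr : r.Prime) (h : r ∣ 2 ^ (2 * m) - 1) : r ∣ 2 ^ m - 1 ∨ r ∣ 2 ^ m + 1 := by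
  rw [mul_comm 2 m, pow_mul, show (2 ^ m) ^ 2 - 1 = (2 ^ m + 1) * (2 ^ m - 1) by
    rw [← Nat.sq_sub_sq, one_pow]] at h
  exact (hr.dvd_mul.mp h).symm

theorem factorization_two {c v w : ℕ} (h : c = 2 ^ v * w) (hw : ¬ 2 ∣ w) : c.factorization 2 = v := by
  have hw0 : w ≠ 0 := fun e => hw (e ▸ dvd_zero 2)
  rw [h, Nat.factorization_mul (pow_ne_zero _ (by norm_num)) hw0, Finsupp.add_apply,
    Nat.factorization_pow_self Nat.prime_two, Nat.factorization_eq_zero_of_not_dvd hw, add_zero]

variable {G : Type u} [Group G] [Finite G]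

theorem exists_orderOf_mul (x : G) {a : ℕ} (h : a ∣ orderOf x) : ∃ y : G, orderOf y = a :=
  ⟨x ^ (orderOf x / a), orderOf_pow_orderOf_div (orderOf_pos x).ne' h⟩

/-- A prime outside a normal subgroup divides `2 ^ v - 1`. -/
theorem dvd_two_pow_sub_one (hC : CIT G) (N : Subgroup G) [N.Normal] {r v : ℕ} [hr : Fact r.Prime] (hr2 : r ≠ 2)
    (hrN : ¬ r ∣ Nat.card N) (hrG : r ∣ Nat.card G) (hv : (Nat.card N).factorization 2 = v) : r ∣ 2 ^ v - 1 := by
  haveI : Fact (Nat.Prime 2) := ⟨Nat.prime_two⟩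
  obtain ⟨P, x, hx, hxP⟩ := exists_normalising N (p := 2) hrN hrG
  have h := card_mod hC hr2 hx _ (P.2.map N.subtype) hxP
  rwa [Subgroup.card_map_of_injective N.subtype_injective, P.card_eq_multiplicity, hv] at h

/-- The hypotheses read off from the prime graph. -/
structure Graph (G : Type u) [Group G] (m : ℕ) : Prop where
  m_ge : 4 ≤ m
  primes : ∀ r : ℕ, r.Prime → (r ∣ Nat.card G ↔ r = 2 ∨ r ∣ 2 ^ (2 * m) - 1)
  cit : CIT G
  cross : ∀ r s : ℕ, r.Prime → s.Prime → r ∣ 2 ^ m - 1 → s ∣ 2 ^ m + 1 → ¬ ∃ x : G, orderOf x = r * s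

theorem Graph.not_solvable {m : ℕ} (h : Graph G m) : ¬ Group.IsSolvable G := by
  classical
  intro hs
  have hm := h.m_ge
  have h16 : 16 ≤ 2 ^ m := le_trans (by norm_num) (Nat.pow_le_pow_right (by norm_num) hm)
  obtain ⟨r, hr, hrd⟩ := Nat.exists_prime_and_dvd (show 2 ^ m - 1 ≠ 1 by omega)
  obtain ⟨s, hs', hsd⟩ := Nat.exists_prime_and_dvd (show 2 ^ m + 1 ≠ 1 by omega)
  have h2m : 2 ∣ 2 ^ m := dvd_pow_self 2 (by omega)
  have hr2 : r ≠ 2 := by rintro rfl; omega
  have hs2 : s ≠ 2 := by rintro rfl; omega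
  have hrs : r ≠ s := by
    rintro rfl
    have := Nat.dvd_sub hsd hrd
    rw [show 2 ^ m + 1 - (2 ^ m - 1) = 2 by omega] at this
    exact hr2 ((Nat.prime_dvd_prime_iff_eq hr Nat.prime_two).mp this)
  set n := Nat.card G with hn
  have hn0 : n ≠ 0 := Nat.card_pos.ne'
  have hrn : r ∣ n := (h.primes r hr).mpr (Or.inr (dvd_double (Or.inl hrd)))
  have hsn : s ∣ n := (h.primes s hs').mpr (Or.inr (dvd_double (Or.inr hsd)))
  have h2n : 2 ∣ n := (h.primes 2 Nat.prime_two).mpr (Or.inl rfl)
  set a := 2 ^ n.factorization 2 * r ^ n.factorization r * s ^ n.factorization s with ha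
  have hadvd : a ∣ n := by
    refine Nat.Coprime.mul_dvd_of_dvd_of_dvd ?_ (Nat.Coprime.mul_dvd_of_dvd_of_dvd ?_ (Nat.ordProj_dvd n 2)
      (Nat.ordProj_dvd n r)) (Nat.ordProj_dvd n s)
    · exact Nat.Coprime.mul_left (Nat.Coprime.pow _ _ ((Nat.coprime_primes Nat.prime_two hs').mpr hs2.symm))
        (Nat.Coprime.pow _ _ ((Nat.coprime_primes hr hs').mpr hrs))
    · exact Nat.Coprime.pow _ _ ((Nat.coprime_primes Nat.prime_two hr).mpr hr2.symm)
  have hnot : ∀ p : ℕ, p.Prime → p ^ n.factorization p ∣ a → ¬ p ∣ n / a := by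
    intro p hp hpa hd
    refine Nat.not_dvd_ordCompl hp hn0 (hd.trans ?_)
    rw [Nat.dvd_div_iff_mul_dvd (Nat.ordProj_dvd n p)]
    exact (mul_dvd_mul_right hpa (n / a)).trans (Nat.mul_div_cancel' hadvd).dvd
  have h2p := Nat.prime_two
  have hcop : a.Coprime (n / a) := by
    refine Nat.Coprime.mul_left (Nat.Coprime.mul_left ?_ ?_) ?_ <;>
      refine Nat.Coprime.pow_left _ ((Nat.Prime.coprime_iff_not_dvd (by assumption)).mpr (hnot _ (by assumption) ?_))
    · exact ((dvd_mul_right _ _).mul_right _)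
    · exact ((dvd_mul_left _ _).mul_right _)
    · exact dvd_mul_left _ _
  obtain ⟨⟨H, hH⟩, -⟩ := CfsgLib.hall_main (G := G) (m := a) (n := n / a) (Nat.mul_div_cancel' hadvd).symm hcop
  have hprimes : ∀ p : ℕ, p.Prime → p ∣ a → p = 2 ∨ p = r ∨ p = s := by
    intro p hp hpa
    rcases hp.dvd_mul.mp hpa with hd | hd
    · rcases hp.dvd_mul.mp hd with hd | hd
      · exact Or.inl ((Nat.prime_dvd_prime_iff_eq hp Nat.prime_two).mp (hp.dvd_of_dvd_pow hd))
      · exact Or.inr (Or.inl ((Nat.prime_dvd_prime_iff_eq hp hr).mp (hp.dvd_of_dvd_pow hd)))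
    · exact Or.inr (Or.inr ((Nat.prime_dvd_prime_iff_eq hp hs').mp (hp.dvd_of_dvd_pow hd)))
  have hno : ∀ (x : G) (p q : ℕ), p.Prime → q.Prime → p ≠ q → (p = 2 ∨ p = r ∨ p = s) → (q = 2 ∨ q = r ∨ q = s) →
      p ∣ orderOf x → q ∣ orderOf x → False := by
    intro x p q hp hq hne hp' hq' hpd hqd
    rcases hp' with rfl | rfl | rfl <;> rcases hq' with rfl | rfl | rfl
    all_goals first
      | exact hne rfl
      | exact no_commute h.cit hq (by assumption) hpd hqd (Commute.refl x)
      | exact no_commute h.cit hp (by assumption) hqd hpd (Commute.refl x)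
      | (obtain ⟨y, hy⟩ := exists_orderOf_mul x (Nat.Coprime.mul_dvd_of_dvd_of_dvd
            ((Nat.coprime_primes hp hq).mpr hne) hpd hqd)
         exact h.cross _ _ hp hq hrd hsd ⟨y, hy⟩)
      | (obtain ⟨y, hy⟩ := exists_orderOf_mul x (Nat.Coprime.mul_dvd_of_dvd_of_dvd
            ((Nat.coprime_primes hq hp).mpr hne.symm) hqd hpd)
         exact h.cross _ _ hq hp hrd hsd ⟨y, hy⟩)
  have hepo : ∀ g : H, g ≠ 1 → IsPrimePow (orderOf g) := by
    intro g hg
    obtain ⟨p, hp, hpd⟩ := Nat.exists_prime_and_dvd (show orderOf g ≠ 1 from fun e => hg (orderOf_eq_one_iff.mp e))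
    rw [isPrimePow_iff_unique_prime_dvd]
    refine ⟨p, ⟨hp, hpd⟩, ?_⟩
    rintro q ⟨hq, hqd⟩
    by_contra hne
    have hdvd : orderOf g ∣ a := hH ▸ orderOf_dvd_natCard g
    exact hno (g : G) q p hq hp hne (hprimes q hq (hqd.trans hdvd)) (hprimes p hp (hpd.trans hdvd))
      (by rwa [Subgroup.orderOf_coe]) (by rwa [Subgroup.orderOf_coe])
  have h3 : ({2, r, s} : Finset ℕ) ⊆ (Nat.card H).primeFactors := by
    rw [hH]
    intro p hp
    simp only [Finset.mem_insert, Finset.mem_singleton] at hp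
    have ha0 : a ≠ 0 := fun e => Nat.card_pos.ne' (hH.trans e)
    rcases hp with rfl | rfl | rfl
    · exact Nat.mem_primeFactors.mpr ⟨Nat.prime_two, ((dvd_pow_self 2
        ((Nat.prime_two.dvd_iff_one_le_factorization hn0).mp h2n |> fun h => by omega)).mul_right _).mul_right _, ha0⟩
    · exact Nat.mem_primeFactors.mpr ⟨hr, ((dvd_pow_self p
        ((hr.dvd_iff_one_le_factorization hn0).mp hrn |> fun h => by omega)).mul_left _).mul_right _, ha0⟩
    · exact Nat.mem_primeFactors.mpr ⟨hs', (dvd_pow_self p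
        ((hs'.dvd_iff_one_le_factorization hn0).mp hsn |> fun h => by omega)).mul_left _, ha0⟩
  have h4 := Finset.card_le_card h3
  rw [Finset.card_insert_of_notMem (by simp [Ne.symm hr2, Ne.symm hs2]), Finset.card_pair hrs] at h4
  have := Cfsg.Agent.S3992.Aux.two_primes hepo
  omega

/-- The almost simple step. -/
theorem socle_step {m : ℕ} (hm : 4 ≤ m) (hC : CIT G) (hprimes : ∀ r : ℕ, r.Prime → r ∣ 2 ^ (2 * m) - 1 → r ∣ Nat.card G)
    (hback : ∀ r : ℕ, r.Prime → r ∣ Nat.card G → r = 2 ∨ r ∣ 2 ^ (2 * m) - 1)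
    (hcross : ∀ r s : ℕ, r.Prime → s.Prime → r ∣ 2 ^ m - 1 → s ∣ 2 ^ m + 1 → ¬ ∃ x : G, orderOf x = r * s)
    (H : SimpleCIT.{u}) (N : Subgroup G) [N.Normal] [IsSimpleGroup N] (hN : ¬ IsMulCommutative N) :
    N.index = 1 ∧ ∃ (F : Type) (_ : Field F) (_ : Fintype F), Fintype.card F = 2 ^ m ∧
      Nonempty (N ≃* Matrix.ProjectiveSpecialLinearGroup (Fin 2) F) := by
  obtain ⟨R, hR, hRd, hRmin⟩ := primitive (2 * m) (by omega) (by omega)
  haveI := Fact.mk hR
  have hR2 : R ≠ 2 := fun e => two_not_dvd_pow_sub_one (j := 2 * m) (by omega) (e ▸ hRd)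
  have hRG := hprimes R hR hRd
  have hRj : ∀ j, R ∣ 2 ^ j - 1 → 2 * m ∣ j := fun j => ord_dvd (by omega) hRd hRmin
  have hin : ∀ v, (Nat.card N).factorization 2 = v → 0 < v → v < 2 * m → R ∣ Nat.card N := by
    intro v hv hv0 hv2
    by_contra hc
    have := Nat.le_of_dvd hv0 (hRj v (dvd_two_pow_sub_one hC N hR2 hc hRG hv))
    omega
  have hNG : ∀ r, r ∣ Nat.card N → r ∣ Nat.card G := fun r h => h.trans (card_subgroup_dvd_card N)
  have hna : ∃ a b : N, a * b ≠ b * a := by
    by_contra h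
    push Not at h
    exact hN ⟨⟨h⟩⟩
  have hR357 : R ≠ 3 ∧ R ≠ 5 ∧ R ≠ 7 := by
    refine ⟨?_, ?_, ?_⟩ <;> intro e
    · have := Nat.le_of_dvd (by norm_num) (hRj 2 (e ▸ by norm_num)); omega
    · have := Nat.le_of_dvd (by norm_num) (hRj 4 (e ▸ by norm_num)); omega
    · have := Nat.le_of_dvd (by norm_num) (hRj 3 (e ▸ by norm_num)); omega
  have hsmall : ∀ (e2 e3 : ℕ), Nat.card N ∣ 2 ^ e2 * 3 ^ e3 * 5 * 7 → ¬ R ∣ Nat.card N := by
    intro e2 e3 hd hc
    rcases hR.dvd_mul.mp (hc.trans hd) with h | h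
    · rcases hR.dvd_mul.mp h with h | h
      · rcases hR.dvd_mul.mp h with h | h
        · exact hR2 ((Nat.prime_dvd_prime_iff_eq hR Nat.prime_two).mp (hR.dvd_of_dvd_pow h))
        · exact hR357.1 ((Nat.prime_dvd_prime_iff_eq hR Nat.prime_three).mp (hR.dvd_of_dvd_pow h))
      · exact hR357.2.1 ((Nat.prime_dvd_prime_iff_eq hR (by norm_num)).mp h)
    · exact hR357.2.2 ((Nat.prime_dvd_prime_iff_eq hR (by norm_num)).mp h)
  rcases H N hna (cit_subgroup hC N) with ⟨K, _, _, hK, ⟨e⟩⟩ | ⟨K, _, _, hK, ⟨e⟩⟩ | hSz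
  · have hc := EppoAlmost.card_psl_two (F := K)
    rw [← Nat.card_congr e.toEquiv] at hc
    rcases hK with hK | ⟨n, hK⟩ | ⟨hp, k, hk⟩
    · exfalso
      rw [hK] at hc
      norm_num at hc
      have hc' : Nat.card N = 360 := by omega
      exact hsmall 3 2 (by rw [hc']; norm_num)
        (hin 3 (factorization_two (w := 45) (by rw [hc']; norm_num) (by norm_num)) (by norm_num) (by omega))
    · -- the family in characteristic two
      have hn0 : 0 < n := by
        by_contra h
        have := Fintype.one_lt_card (α := K)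
        rw [hK, show n = 0 by omega, pow_zero] at this
        omega
      have h2n : 2 ∣ 2 ^ n := dvd_pow_self 2 hn0.ne'
      have hg : Nat.gcd 2 (2 ^ n - 1) = 1 :=
        (Nat.prime_two.coprime_iff_not_dvd.mpr (two_not_dvd_pow_sub_one hn0) : Nat.Coprime 2 _)
      rw [hK, hg, one_mul, sq_sub_one_eq] at hc
      have hv : (Nat.card N).factorization 2 = n :=
        factorization_two hc (two_not_dvd_pow_sub_one (by omega))
      have hRN : R ∣ Nat.card N := by
        by_contra hcon
        have hRn := hRj n (dvd_two_pow_sub_one hC N hR2 hcon hRG hv)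
        apply hcon
        rw [hc]
        refine dvd_mul_of_dvd_right (hRd.trans (Nat.pow_sub_one_dvd_pow_sub_one 2 ?_)) _
        exact Dvd.dvd.mul_left hRn 2
      have hmn : m ∣ n := by
        rw [hc] at hRN
        rcases hR.dvd_mul.mp hRN with h | h
        · exact absurd ((Nat.prime_dvd_prime_iff_eq hR Nat.prime_two).mp (hR.dvd_of_dvd_pow h)) hR2
        · exact Nat.dvd_of_mul_dvd_mul_left (by norm_num) (hRj _ h)
      have hn4 : 4 ≤ n := hm.trans (Nat.le_of_dvd hn0 hmn)
      haveI : Fact (Nat.Prime 2) := ⟨Nat.prime_two⟩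
      haveI : CharP K 2 := charP_of_card_eq_prime_pow (p := 2) (f := n) hK
      have hE : ∀ t : N, orderOf t = 2 → ∀ c ∈ centralizer ({t} : Set N), c * c = 1 := by
        intro t ht c hc'
        obtain ⟨i, hi⟩ := IsPGroup.iff_orderOf.mp (cit_subgroup hC N t ht) ⟨c, hc'⟩
        rw [← Subgroup.orderOf_coe] at hi
        have hle : orderOf c ∣ 2 := by
          have hex : ∃ x : ProjectiveSpecialLinearGroup (Fin 2) K, orderOf x = 2 ^ i :=
            ⟨e c, by rw [MulEquiv.orderOf_eq]; exact hi⟩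
          rw [PSL2Spectrum.psl_orders 2, hK, hg, Nat.div_one, Nat.div_one] at hex
          simp only at hi
          rw [hi]
          rcases hex with hd | hd | hd
          · rcases Nat.eq_zero_or_pos i with rfl | hi0
            · exact one_dvd _
            · exact absurd ((dvd_pow_self 2 hi0.ne').trans hd) (two_not_dvd_pow_sub_one hn0)
          · rcases Nat.eq_zero_or_pos i with rfl | hi0
            · exact one_dvd _
            · have := (dvd_pow_self 2 hi0.ne').trans hd
              omega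
          · rw [hd]
        rw [← pow_two]
        exact orderOf_dvd_iff_pow_eq_one.mp hle
      have hidx : N.index = 1 := index_one hC N hN hE (by
        rw [hc]
        exact dvd_mul_of_dvd_left (show 2 ^ 3 ∣ 2 ^ n from Nat.pow_dvd_pow 2 (by omega)) _)
      obtain ⟨S, hS, hSd, hSmin⟩ := primitive (2 * n) (by omega) (by omega)
      have hSm : S ∣ 2 ^ (2 * m) - 1 := by
        refine (hback S hS (hNG S ?_)).resolve_left fun e => two_not_dvd_pow_sub_one (j := 2 * n) (by omega) (e ▸ hSd)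
        rw [hc]
        exact dvd_mul_of_dvd_right hSd _
      have hnm : n ∣ m := Nat.dvd_of_mul_dvd_mul_left (by norm_num) (ord_dvd (by omega) hSd hSmin hSm)
      exact ⟨hidx, K, inferInstance, inferInstance, by rw [hK, Nat.dvd_antisymm hnm hmn], ⟨e⟩⟩
    · exfalso
      rcases Nat.lt_or_ge k 2 with hk2 | hk2
      · -- tiny degrees
        obtain h2 | h3 : Fintype.card K = 2 ∨ Fintype.card K = 3 := by
          interval_cases k <;> rcases hk with h | h <;> norm_num at h
          all_goals first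
            | exact Or.inl (by omega)
            | exact Or.inr (by omega)
            | (have := hp.two_le; omega)
        · rw [h2] at hc
          norm_num at hc
          exact hsmall 1 1 (by rw [hc]; norm_num)
            (hin 1 (factorization_two (w := 3) (by rw [hc]; norm_num) (by norm_num)) (by norm_num) (by omega))
        · rw [h3] at hc
          norm_num at hc
          have hc' : Nat.card N = 12 := by omega
          exact hsmall 2 1 (by rw [hc']; norm_num)
            (hin 2 (factorization_two (w := 3) (by rw [hc']; norm_num) (by norm_num)) (by norm_num) (by omega))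
      set p := Fintype.card K with hpdef
      obtain ⟨j, rfl⟩ : ∃ j, k = j + 2 := ⟨k - 2, by omega⟩
      have hX : 2 ∣ 2 ^ (j + 1) := dvd_pow_self 2 (by omega)
      have hX1 : 2 ≤ 2 ^ (j + 1) := Nat.le_of_dvd (by positivity) hX
      have hpow : 2 ^ (j + 2) = 2 * 2 ^ (j + 1) := by rw [pow_succ]; ring
      have hp2 : p ≠ 2 := by rcases hk with h | h <;> omega
      have hg : Nat.gcd 2 (p - 1) = 2 := Nat.gcd_eq_left (by
        rcases hk with h | h <;> omega)
      have hpG : p ∣ Nat.card G := by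
        refine hNG p ?_
        rw [hg] at hc
        have h1 : p ∣ 2 * Nat.card N := hc ▸ dvd_mul_right p _
        exact (hp.dvd_mul.mp h1).resolve_left fun h => hp2 ((Nat.prime_dvd_prime_iff_eq hp Nat.prime_two).mp h)
      have hp2m : p ∣ 2 ^ (2 * m) - 1 := (hback p hp hpG).resolve_left hp2
      rcases hk with hk | hk
      · -- Fermat primes
        have hcN : Nat.card N = 2 ^ (j + 2) * ((2 ^ (j + 1) + 1) * p) := by
          rw [hg, hk, hpow] at hc
          rw [hk, hpow]
          generalize 2 ^ (j + 1) = X at hc ⊢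
          have e2 : (2 * X + 1) ^ 2 - 1 = 4 * (X * (X + 1)) := by
            rw [Nat.sub_eq_iff_eq_add (Nat.one_le_pow _ _ (by omega))]; ring
          rw [e2] at hc
          linarith
        have hv : (Nat.card N).factorization 2 = j + 2 :=
          factorization_two hcN (fun h => by
            rcases Nat.prime_two.dvd_mul.mp h with h | h
            · omega
            · exact hp2 ((Nat.prime_dvd_prime_iff_eq Nat.prime_two hp).mp h).symm)
        have hkm : j + 2 ∣ m := by
          have h1 : p ∣ 2 ^ Nat.gcd (2 * (j + 2)) (2 * m) - 1 := by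
            rw [← Nat.pow_sub_one_gcd_pow_sub_one]
            exact Nat.dvd_gcd (dvd_double (Or.inr (hk ▸ dvd_rfl))) hp2m
          rw [Nat.gcd_mul_left] at h1
          rcases eq_or_lt_of_le (Nat.gcd_le_left m (show 0 < j + 2 by omega)) with h | h
          · exact h ▸ Nat.gcd_dvd_right _ _
          · exfalso
            have hg0 : 0 < Nat.gcd (j + 2) m := Nat.gcd_pos_of_pos_left _ (by omega)
            have h2 := Nat.le_of_dvd (Nat.sub_pos_of_lt (Nat.one_lt_two_pow (by omega))) h1
            obtain ⟨c, hc'⟩ := Nat.gcd_dvd_left (j + 2) m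
            have hc2 : 2 ≤ c := by
              rcases Nat.lt_or_ge c 2 with hc3 | hc3
              · interval_cases c <;> omega
              · exact hc3
            have : 2 ^ (2 * Nat.gcd (j + 2) m) ≤ 2 ^ (j + 2) := Nat.pow_le_pow_right (by norm_num) (by nlinarith)
            omega
        have hjm := Nat.le_of_dvd (by omega) hkm
        have hRN := hin _ hv (by omega) (by omega)
        rw [hcN] at hRN
        rcases hR.dvd_mul.mp hRN with h | h
        · exact hR2 ((Nat.prime_dvd_prime_iff_eq hR Nat.prime_two).mp (hR.dvd_of_dvd_pow h))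
        rcases hR.dvd_mul.mp h with h | h
        · have := Nat.le_of_dvd (by omega) (hRj _ (dvd_double (Or.inr h)))
          omega
        rw [(Nat.prime_dvd_prime_iff_eq hR hp).mp h, hk] at hRmin
        have hmk : m = j + 2 := by
          by_contra hne
          exact hRmin (2 * (j + 2)) (by omega) (by omega) (dvd_double (Or.inr dvd_rfl))
        have hm6 : m ≠ 6 := by
          intro h6
          rw [hk, ← hmk, h6] at hp
          norm_num at hp
        obtain ⟨r, hr, hrd, hrmin⟩ := primitive m (by omega) hm6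
        haveI := Fact.mk hr
        have hr2 : r ≠ 2 := fun e => two_not_dvd_pow_sub_one (j := m) (by omega) (e ▸ hrd)
        have hrN : ¬ r ∣ Nat.card N := by
          intro hc'
          rw [hcN] at hc'
          rcases hr.dvd_mul.mp hc' with h' | h'
          · exact hr2 ((Nat.prime_dvd_prime_iff_eq hr Nat.prime_two).mp (hr.dvd_of_dvd_pow h'))
          rcases hr.dvd_mul.mp h' with h' | h'
          · have h3 := ord_dvd (by omega) hrd hrmin (dvd_double (Or.inr h'))
            obtain ⟨c, hc3⟩ := h3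
            rcases Nat.lt_or_ge c 2 with hc4 | hc4
            · interval_cases c <;> omega
            · have := Nat.mul_le_mul_left m hc4
              omega
          · rw [(Nat.prime_dvd_prime_iff_eq hr hp).mp h', hk, ← hmk] at hrd
            have h9 := Nat.le_of_dvd (Nat.sub_pos_of_lt (Nat.one_lt_two_pow (by omega))) hrd
            generalize 2 ^ m = z at h9
            omega
        obtain ⟨K', _, _, hK', ⟨e'⟩⟩ := psl_of_irreducible hC N hN hr2 hrN
          (hprimes r hr (dvd_double (Or.inl hrd))) hv (fun i hi hi' => hrmin i hi (by omega))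
        have hc'' := EppoAlmost.card_psl_two (F := K')
        rw [hK', ← Nat.card_congr e'.toEquiv, hcN, hk, sq_sub_one_eq,
          show Nat.gcd 2 (2 ^ (j + 2) - 1) = 1 from
            (Nat.prime_two.coprime_iff_not_dvd.mpr (two_not_dvd_pow_sub_one (by omega)) : Nat.Coprime 2 _),
          one_mul] at hc''
        have h5 := Nat.eq_of_mul_eq_mul_left (by positivity) hc''
        rw [pow_mul', hpow] at h5
        have h4 : 4 ≤ j + 2 := by omega
        have h8 : 2 ^ 3 ≤ 2 ^ (j + 1) := Nat.pow_le_pow_right (by norm_num) (by omega)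
        generalize 2 ^ (j + 1) = X at h5 h8
        have h6 : (2 * X) ^ 2 - 1 = (2 * X + 1) * (2 * X - 1) := by rw [← Nat.sq_sub_sq, one_pow]
        rw [h6, mul_comm (X + 1)] at h5
        have := Nat.eq_of_mul_eq_mul_left (by omega) h5
        omega
      · -- Mersenne primes
        have hcN : Nat.card N = 2 ^ (j + 2) * ((2 ^ (j + 1) - 1) * p) := by
          have hpX : p = 2 * 2 ^ (j + 1) - 1 := by omega
          rw [hg, hpX] at hc
          rw [hpow, hpX]
          generalize 2 ^ (j + 1) = X at hc hX1 ⊢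
          obtain ⟨Y, rfl⟩ : ∃ Y, X = Y + 1 := ⟨X - 1, by omega⟩
          rw [show 2 * (Y + 1) - 1 = 2 * Y + 1 by omega] at hc ⊢
          rw [show Y + 1 - 1 = Y by omega]
          have e2 : (2 * Y + 1) ^ 2 - 1 = 4 * (Y * (Y + 1)) := by
            rw [Nat.sub_eq_iff_eq_add (Nat.one_le_pow _ _ (by omega))]; ring
          rw [e2] at hc
          linarith
        have hv : (Nat.card N).factorization 2 = j + 2 :=
          factorization_two hcN (fun h => by
            rcases Nat.prime_two.dvd_mul.mp h with h | h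
            · exact two_not_dvd_pow_sub_one (j := j + 1) (by omega) h
            · exact hp2 ((Nat.prime_dvd_prime_iff_eq Nat.prime_two hp).mp h).symm)
        have hpk : p = 2 ^ (j + 2) - 1 := by omega
        have hk2m : j + 2 ∣ 2 * m := by
          have h1 : p ∣ 2 ^ Nat.gcd (j + 2) (2 * m) - 1 := by
            rw [← Nat.pow_sub_one_gcd_pow_sub_one]
            exact Nat.dvd_gcd (hpk ▸ dvd_rfl) hp2m
          rcases eq_or_lt_of_le (Nat.gcd_le_left (2 * m) (show 0 < j + 2 by omega)) with h | h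
          · exact h ▸ Nat.gcd_dvd_right _ _
          · exfalso
            have hg0 : 0 < Nat.gcd (j + 2) (2 * m) := Nat.gcd_pos_of_pos_left _ (by omega)
            have h2 := Nat.le_of_dvd (Nat.sub_pos_of_lt (Nat.one_lt_two_pow (by omega))) h1
            have : 2 ^ Nat.gcd (j + 2) (2 * m) < 2 ^ (j + 2) := Nat.pow_lt_pow_right (by norm_num) h
            omega
        have hne : j + 2 ≠ 2 * m := by
          intro h
          rw [hpk, h, mul_comm 2 m, pow_mul, show (2 ^ m) ^ 2 - 1 = (2 ^ m + 1) * (2 ^ m - 1) by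
            rw [← Nat.sq_sub_sq, one_pow]] at hp
          have h16 : 2 ^ 4 ≤ 2 ^ m := Nat.pow_le_pow_right (by norm_num) hm
          exact Nat.not_prime_mul (by omega) (by omega) hp
        have hle := lt_of_le_of_ne (Nat.le_of_dvd (by omega) hk2m) hne
        have hRN := hin _ hv (by omega) hle
        rw [hcN] at hRN
        rcases hR.dvd_mul.mp hRN with h | h
        · exact hR2 ((Nat.prime_dvd_prime_iff_eq hR Nat.prime_two).mp (hR.dvd_of_dvd_pow h))
        rcases hR.dvd_mul.mp h with h | h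
        · have := Nat.le_of_dvd (by omega) (hRj _ h)
          omega
        · have := Nat.le_of_dvd (by omega) (hRj (j + 2) (hpk ▸ h))
          omega
  · exfalso
    have hc : Nat.card N = 20160 := by rw [Nat.card_congr e.toEquiv, EppoAlmost.card_psl_three_four hK]
    exact hsmall 6 2 (by rw [hc]; norm_num)
      (hin 6 (factorization_two (w := 315) (by rw [hc]; norm_num) (by norm_num)) (by norm_num) (by omega))
  · exfalso
    obtain ⟨-, k, hk, hc⟩ := hSz
    obtain ⟨n, hn, hn3⟩ : ∃ n, n = 2 * k + 1 ∧ 3 ≤ n := ⟨2 * k + 1, rfl, by omega⟩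
    rw [← hn] at hc
    have hodd : ¬ 2 ∣ ((2 ^ n) ^ 2 + 1) * (2 ^ n - 1) := by
      intro h
      rcases Nat.prime_two.dvd_mul.mp h with h | h
      · have : 2 ∣ (2 ^ n) ^ 2 := dvd_pow (dvd_pow_self 2 (by omega)) two_ne_zero
        omega
      · exact two_not_dvd_pow_sub_one (j := n) (by omega) h
    have hcN : Nat.card N = 2 ^ (2 * n) * (((2 ^ n) ^ 2 + 1) * (2 ^ n - 1)) := by
      rw [hc, ← pow_mul, mul_comm n 2, mul_assoc]
    have hv := factorization_two hcN hodd
    have hsq : (2 ^ n) ^ 2 = 2 ^ (2 * n) := by rw [← pow_mul, mul_comm]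
    have hNdiv : ∀ r : ℕ, r.Prime → r ≠ 2 → r ∣ Nat.card N → r ∣ 2 ^ (2 * n) + 1 ∨ r ∣ 2 ^ n - 1 := by
      intro r hr hr2 hd
      rw [hcN] at hd
      rcases hr.dvd_mul.mp hd with h | h
      · exact absurd ((Nat.prime_dvd_prime_iff_eq hr Nat.prime_two).mp (hr.dvd_of_dvd_pow h)) hr2
      · rcases hr.dvd_mul.mp h with h | h
        · exact Or.inl (hsq ▸ h)
        · exact Or.inr h
    obtain ⟨S, hS, hSd, hSmin⟩ := primitive (2 * (2 * n)) (by omega) (by omega)
    have hS2 : S ≠ 2 := fun e => two_not_dvd_pow_sub_one (j := 2 * (2 * n)) (by omega) (e ▸ hSd)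
    have hSN : S ∣ Nat.card N := by
      rcases dvd_of_double hS hSd with h | h
      · exact absurd h (hSmin _ (by omega) (by omega))
      · rw [hcN, hsq]
        exact dvd_mul_of_dvd_right (h.mul_right _) _
    have hnm : 2 * n ∣ m := Nat.dvd_of_mul_dvd_mul_left (by norm_num)
      (ord_dvd (by omega) hSd hSmin ((hback S hS (hNG S hSN)).resolve_left hS2))
    have hmn : m = 2 * n := by
      by_cases hRN : R ∣ Nat.card N
      · have h4 : R ∣ 2 ^ (2 * (2 * n)) - 1 := by
          rcases hNdiv R hR hR2 hRN with h | h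
          · exact dvd_double (Or.inr h)
          · exact dvd_double (Or.inl (dvd_double (Or.inl h)))
        exact Nat.dvd_antisymm (Nat.dvd_of_mul_dvd_mul_left (by norm_num) (hRj _ h4)) hnm
      · have h := Nat.le_of_dvd (by omega) (hRj _ (dvd_two_pow_sub_one hC N hR2 hRN hRG hv))
        have := Nat.le_of_dvd (by omega) hnm
        omega
    rcases eq_or_ne n 3 with h3 | h3
    · subst h3
      haveI : Fact (Nat.Prime 3) := ⟨Nat.prime_three⟩
      haveI : Fact (Nat.Prime 5) := ⟨by norm_num⟩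
      have hc5 : Nat.card N = 29120 := by rw [hcN]; norm_num
      obtain ⟨P, x, hx, hxP⟩ := exists_normalising N (p := 5) (r := 3) (by rw [hc5]; norm_num)
        (hprimes 3 Nat.prime_three (by rw [hmn]; norm_num))
      have hPc : Nat.card ((P : Subgroup N).map N.subtype) = 5 := by
        rw [Subgroup.card_map_of_injective N.subtype_injective, P.card_eq_multiplicity, hc5]
        have : (29120 : ℕ).factorization 5 = 1 := by
          rw [show (29120 : ℕ) = 5 * 5824 by norm_num, Nat.factorization_mul (by norm_num) (by norm_num),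
            Finsupp.add_apply, Nat.Prime.factorization_self (by norm_num),
            Nat.factorization_eq_zero_of_not_dvd (by norm_num)]
        rw [this, pow_one]
      set P' := (P : Subgroup N).map N.subtype
      haveI : IsCyclic P' := isCyclic_of_prime_card hPc
      obtain ⟨z, hz⟩ := exists_prime_orderOf_dvd_card' (G := P') 5 (by rw [hPc])
      have hφ : normalizerMonoidHom P' ⟨x, hxP⟩ = 1 := by
        rw [← orderOf_eq_one_iff]
        refine Nat.eq_one_of_dvd_coprimes (a := 3) (b := 4) (by norm_num) ?_ ?_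
        · exact (orderOf_map_dvd _ _).trans (by rw [← Subgroup.orderOf_coe, hx])
        · refine (_root_.orderOf_dvd_natCard _).trans ?_
          rw [IsCyclic.card_mulAut, hPc, Nat.totient_prime (by norm_num)]
      have hxz : Commute x (z : G) := by
        have h := congrArg (fun f : MulAut P' => ((f z : P') : G)) hφ
        exact mul_inv_eq_iff_eq_mul.mp h
      refine hcross 3 5 Nat.prime_three (by norm_num) (by rw [hmn]; norm_num) (by rw [hmn]; norm_num) ⟨x * z, ?_⟩
      rw [hxz.orderOf_mul_eq_mul_orderOf_of_coprime (by rw [hx, Subgroup.orderOf_coe, hz]; norm_num), hx,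
        Subgroup.orderOf_coe, hz]
    · obtain ⟨r, hr, hrd, hrmin⟩ := primitive (2 * n) (by omega) (by omega)
      haveI := Fact.mk hr
      have hr2 : r ≠ 2 := fun e => two_not_dvd_pow_sub_one (j := 2 * n) (by omega) (e ▸ hrd)
      have hrN : ¬ r ∣ Nat.card N := by
        intro hd
        rcases hNdiv r hr hr2 hd with h | h
        · have h' := Nat.dvd_sub h hrd
          have := Nat.one_le_two_pow (n := 2 * n)
          rw [show 2 ^ (2 * n) + 1 - (2 ^ (2 * n) - 1) = 2 by omega] at h'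
          exact hr2 ((Nat.prime_dvd_prime_iff_eq hr Nat.prime_two).mp h')
        · exact hrmin n (by omega) (by omega) h
      obtain ⟨K', _, _, hK', ⟨e'⟩⟩ := psl_of_irreducible hC N hN hr2 hrN
        (hprimes r hr (by rw [hmn]; exact dvd_double (Or.inl hrd))) hv hrmin
      have hc'' := EppoAlmost.card_psl_two (F := K')
      rw [hK', ← Nat.card_congr e'.toEquiv, hcN,
        show Nat.gcd 2 (2 ^ (2 * n) - 1) = 1 from
          (Nat.prime_two.coprime_iff_not_dvd.mpr (two_not_dvd_pow_sub_one (by omega)) : Nat.Coprime 2 _), one_mul,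
        ← hsq] at hc''
      have h5 := Nat.eq_of_mul_eq_mul_left (by positivity) hc''
      have h8 : 2 ^ 3 ≤ 2 ^ n := Nat.pow_le_pow_right (by norm_num) hn3
      generalize 2 ^ n = X at h5 h8
      obtain ⟨Y, rfl⟩ : ∃ Y, X = Y + 1 := ⟨X - 1, by omega⟩
      rw [Nat.add_sub_cancel, show ((Y + 1) ^ 2) ^ 2 - 1 = ((Y + 1) ^ 2 + 1) * ((Y + 1) ^ 2 - 1) by
        rw [← Nat.sq_sub_sq, one_pow]] at h5
      have h6 := Nat.eq_of_mul_eq_mul_left (by omega) h5
      have h7 : (Y + 1) ^ 2 = Y * Y + 2 * Y + 1 := by ring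
      omega

theorem recognition (H : SimpleCIT.{u}) {F : Type*} [Field F] [Fintype F] (m : ℕ) (hm : 4 ≤ m)
    (hF : Fintype.card F = 2 ^ m)
    (h : ((∀ r : ℕ, r.Prime → (r ∣ Nat.card (Matrix.ProjectiveSpecialLinearGroup (Fin 2) F) ↔ r ∣ Nat.card G)) ∧
      (∀ r s : ℕ, r.Prime → s.Prime → r ≠ s → ((∃ x : (Matrix.ProjectiveSpecialLinearGroup (Fin 2) F),
        orderOf x = r * s) ↔ (∃ y : G, orderOf y = r * s))))) :
    Nonempty (G ⧸ Cfsg.pCore 2 G ≃* Matrix.ProjectiveSpecialLinearGroup (Fin 2) F) := by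
  haveI : Fact (Nat.Prime 2) := ⟨Nat.prime_two⟩
  haveI : CharP F 2 := charP_of_card_eq_prime_pow (p := 2) (f := m) hF
  have hg : Nat.gcd 2 (2 ^ m - 1) = 1 :=
    (Nat.prime_two.coprime_iff_not_dvd.mpr (two_not_dvd_pow_sub_one (by omega)) : Nat.Coprime 2 _)
  have hc := EppoAlmost.card_psl_two (F := F)
  rw [hF, hg, one_mul, sq_sub_one_eq] at hc
  have hord : ∀ n : ℕ, (∃ x : ProjectiveSpecialLinearGroup (Fin 2) F, orderOf x = n) →
      n ∣ 2 ^ m - 1 ∨ n ∣ 2 ^ m + 1 ∨ n = 2 := by
    intro n hn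
    have h' := (PSL2Spectrum.psl_orders 2 n).mp hn
    rwa [hF, hg, Nat.div_one, Nat.div_one] at h'
  have hprimes : ∀ r : ℕ, r.Prime → (r ∣ Nat.card G ↔ r = 2 ∨ r ∣ 2 ^ (2 * m) - 1) := by
    intro r hr
    rw [← h.1 r hr, hc, hr.dvd_mul]
    constructor
    · rintro (h' | h')
      · exact Or.inl ((Nat.prime_dvd_prime_iff_eq hr Nat.prime_two).mp (hr.dvd_of_dvd_pow h'))
      · exact Or.inr h'
    · rintro (rfl | h')
      · exact Or.inl (dvd_pow_self 2 (by omega))
      · exact Or.inr h'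
  have h2m : 2 ∣ 2 ^ m := dvd_pow_self 2 (by omega)
  have hcit : CIT G := by
    intro t ht
    refine IsPGroup.of_card (Nat.eq_prime_pow_of_unique_prime_dvd Nat.card_pos.ne' fun {r} hr hd => ?_)
    by_contra hr2
    haveI := Fact.mk hr
    obtain ⟨c, hc'⟩ := exists_prime_orderOf_dvd_card' (G := centralizer ({t} : Set G)) r hd
    rw [← Subgroup.orderOf_coe] at hc'
    have hcom : Commute t (c : G) := (mem_centralizer_singleton_iff.mp c.2).symm
    have hord' := hcom.orderOf_mul_eq_mul_orderOf_of_coprime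
      (by rw [ht, hc']; exact (Nat.coprime_primes Nat.prime_two hr).mpr (Ne.symm hr2))
    rw [ht, hc'] at hord'
    rcases hord (2 * r) ((h.2 2 r Nat.prime_two hr (Ne.symm hr2)).mpr ⟨_, hord'⟩) with h' | h' | h'
    · exact two_not_dvd_pow_sub_one (j := m) (by omega) ((dvd_mul_right 2 r).trans h')
    · have := (dvd_mul_right 2 r).trans h'
      omega
    · have := hr.two_le
      omega
  have hno : ∀ r s : ℕ, r.Prime → s.Prime → r ∣ 2 ^ m - 1 → s ∣ 2 ^ m + 1 → ¬ ∃ x : G, orderOf x = r * s := by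
    intro r s hr hs hrd hsd hx
    have hr2 : r ≠ 2 := fun e => two_not_dvd_pow_sub_one (j := m) (by omega) (e ▸ hrd)
    have hs2 : s ≠ 2 := by rintro rfl; omega
    have hdiff : ∀ p : ℕ, p.Prime → p ∣ 2 ^ m - 1 → p ∣ 2 ^ m + 1 → p = 2 := by
      intro p hp h1 h2
      have := Nat.dvd_sub h2 h1
      have h1' := Nat.one_le_two_pow (n := m)
      rw [show 2 ^ m + 1 - (2 ^ m - 1) = 2 by omega] at this
      exact (Nat.prime_dvd_prime_iff_eq hp Nat.prime_two).mp this
    have hne : r ≠ s := fun e => hr2 (hdiff r hr hrd (e ▸ hsd))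
    rcases hord (r * s) ((h.2 r s hr hs hne).mpr hx) with h' | h' | h'
    · exact hs2 (hdiff s hs ((dvd_mul_left s r).trans h') hsd)
    · exact hr2 (hdiff r hr hrd ((dvd_mul_right r s).trans h'))
    · exact hr2 ((Nat.prime_dvd_prime_iff_eq hr Nat.prime_two).mp (h' ▸ dvd_mul_right r s))
  have gr : Graph G m := ⟨hm, hprimes, hcit, hno⟩
  have hns := gr.not_solvable
  set Q := Cfsg.pCore 2 G with hQ
  have hQ2 : IsPGroup 2 Q := CfsgLib.isPGroup_pCore 2
  have hnsQ : ¬ Group.IsSolvable (G ⧸ Q) := fun hs => hns ((Group.isSolvable_iff_subgroup_quotient Q).mpr ⟨by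
    haveI := hQ2.isNilpotent
    infer_instance, hs⟩)
  obtain ⟨N, hNn, hNs, hNc⟩ := exists_simple (cit_quotient hcit Q hQ2) hnsQ CfsgLib.ZJ.pCore_quotient_pCore_eq_bot
  have h1 : ∀ r : ℕ, r.Prime → r ∣ 2 ^ (2 * m) - 1 → r ∣ Nat.card (G ⧸ Q) := by
    intro r hr hd
    have hrG := (hprimes r hr).mpr (Or.inr hd)
    rw [Subgroup.card_eq_card_quotient_mul_card_subgroup Q] at hrG
    refine (hr.dvd_mul.mp hrG).resolve_right fun hrQ => ?_
    obtain ⟨i, hi⟩ := IsPGroup.iff_card.mp hQ2
    rw [hi] at hrQ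
    rw [(Nat.prime_dvd_prime_iff_eq hr Nat.prime_two).mp (hr.dvd_of_dvd_pow hrQ)] at hd
    exact two_not_dvd_pow_sub_one (by omega) hd
  have h2 : ∀ r : ℕ, r.Prime → r ∣ Nat.card (G ⧸ Q) → r = 2 ∨ r ∣ 2 ^ (2 * m) - 1 := fun r hr hd =>
    (hprimes r hr).mp (hd.trans (card_quotient_dvd_card Q))
  have h3 : ∀ r s : ℕ, r.Prime → s.Prime → r ∣ 2 ^ m - 1 → s ∣ 2 ^ m + 1 → ¬ ∃ x : G ⧸ Q, orderOf x = r * s := by
    rintro r s hr hs hrd hsd ⟨x, hx⟩
    obtain ⟨g, rfl⟩ := QuotientGroup.mk'_surjective Q x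
    exact hno r s hr hs hrd hsd (exists_orderOf_mul g (hx ▸ orderOf_map_dvd (QuotientGroup.mk' Q) g))
  obtain ⟨hidx, K, _, _, hK, ⟨e⟩⟩ := socle_step hm (cit_quotient hcit Q hQ2) h1 h2 h3 H N hNc
  obtain ⟨f⟩ := CfsgLib.SmallOrders.psl_congr (FiniteField.ringEquivOfCardEq (K := K) (K' := F) (hK.trans hF.symm))
  exact ⟨((Subgroup.topEquiv.symm.trans (MulEquiv.subgroupCongr (index_eq_one.mp hidx).symm)).trans e).trans f⟩

end CfsgLib.CITQuot
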