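import Cfsg.Agent.Lib.CITQuot.PrimeGraph
import Cfsg.Agent.Lib.CIT.Outcome
import Cfsg.Agent.Lib.Suzuki.Partition
import Cfsg.Agent.Lib.Suzuki.Aut
import Cfsg.Agent.Lib.SuzukiUnique.CIT
import Cfsg.Agent.Lib.SuzukiUnique.Transport

/-!
The prime graph of a Suzuki group determines the group modulo its two-core, given the classification of the simple
groups with two-group involution centralisers.
-/

set_option autoImplicit false
set_option linter.unusedSectionVars false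
set_option linter.style.haveILetI false

namespace CfsgLib.CITQuot

open Subgroup Matrix

universe u v

section Orders

variable {F : Type*} [Field F] [Fintype F] {m : ℕ} (hF : Fintype.card F = 2 ^ (2 * m + 1))
include hF

theorem sz_orders (hm : 1 ≤ m) (z : ↥(Cfsg.Sz F m)) :
    orderOf z ∣ (2 ^ (2 * m + 1)) ^ 2 ∨ orderOf z ∣ 2 ^ (2 * m + 1) - 1 ∨
      orderOf z ∣ (2 ^ (2 * m + 1)) ^ 2 + 1 := by
  by_cases hz : z = 1
  · exact Or.inl (by rw [hz, orderOf_one]; exact one_dvd _)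
  obtain ⟨Ap, Am, -, hAp, -, -, -, hAm, -, -, hall⟩ := Suzuki.classify hF hm
  obtain ⟨hprod, -⟩ := Suzuki.arith hF hm _ _ rfl rfl
  rcases hall z hz with h | h | h | h <;> have h' := Suzuki.orderOf_dvd_of_conjSet _ h
  · rw [Suzuki.card_U] at h'; exact Or.inl h'
  · rw [Suzuki.card_T] at h'; exact Or.inr (Or.inl h')
  · rw [hAp] at h'; exact Or.inr (Or.inr (h'.trans (Dvd.intro _ hprod)))
  · rw [hAm] at h'; exact Or.inr (Or.inr (h'.trans (Dvd.intro_left _ hprod)))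

theorem sz_isConj (hm : 1 ≤ m) {s t : ↥(Cfsg.Sz F m)} (hs : orderOf s = 2) (ht : orderOf t = 2) : IsConj s t := by
  have key : ∀ s : ↥(Cfsg.Sz F m), orderOf s = 2 → IsConj (Suzuki.uS hF 0 1) s := by
    intro s hs
    obtain ⟨Ap, Am, -, hAp, -, -, -, hAm, -, -, hall⟩ := Suzuki.classify hF hm
    obtain ⟨c1, c2, c3, -, -, -⟩ := Suzuki.coprime_orders hF hm _ _ _ rfl rfl rfl
    have h2q : 2 ∣ (2 ^ (2 * m + 1)) ^ 2 := dvd_pow (dvd_pow_self 2 (by omega)) two_ne_zero
    have hs1 : s ≠ 1 := fun e => by rw [e, orderOf_one] at hs; omega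
    have hodd : ∀ k, Nat.Coprime ((2 ^ (2 * m + 1)) ^ 2) k → ¬ orderOf s ∣ k := fun k hk h => by
      rw [hs] at h
      have := Nat.eq_one_of_dvd_coprimes hk h2q h
      omega
    rcases hall s hs1 with h | h | h | h
    · obtain ⟨-, k, hk⟩ := h
      obtain ⟨a, b, hab⟩ := (Suzuki.mem_U hF).mp hk
      have ho : orderOf (Suzuki.uS hF a b) = 2 := by
        rw [← hab, ← hs]
        simpa using MulEquiv.orderOf_eq (MulAut.conj k⁻¹) s
      have h1 : Suzuki.uS hF a b * Suzuki.uS hF a b = 1 := by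
        rw [← pow_two, ← ho, pow_orderOf_eq_one]
      rw [Suzuki.uS_mul, ← Suzuki.uS_zero hF] at h1
      haveI := Suzuki.charTwo hF
      have h2 := (Suzuki.uS_inj hF h1).2
      rw [CharTwo.add_self_eq_zero, zero_add, mul_eq_zero, Suzuki.th_eq_zero_iff, or_self] at h2
      subst h2
      have hb : b ≠ 0 := by
        rintro rfl
        rw [Suzuki.uS_zero, orderOf_one] at ho
        omega
      obtain ⟨l, hl⟩ := Suzuki.th_sq_surj hF hb
      refine isConj_iff.mpr ⟨k * Suzuki.dS hF l, ?_⟩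
      calc k * Suzuki.dS hF l * Suzuki.uS hF 0 1 * (k * Suzuki.dS hF l)⁻¹
          = k * (Suzuki.dS hF l * Suzuki.uS hF 0 1 * (Suzuki.dS hF l)⁻¹) * k⁻¹ := by group
        _ = k * (k⁻¹ * s * k) * k⁻¹ := by rw [Suzuki.dS_uS, mul_zero, mul_one, hl, ← hab]
        _ = s := by group
    · have h' := Suzuki.orderOf_dvd_of_conjSet _ h
      rw [Suzuki.card_T] at h'
      exact absurd h' (hodd _ c1)
    · have h' := Suzuki.orderOf_dvd_of_conjSet _ h
      rw [hAp] at h'
      exact absurd h' (hodd _ c2)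
    · have h' := Suzuki.orderOf_dvd_of_conjSet _ h
      rw [hAm] at h'
      exact absurd h' (hodd _ c3)
  exact (key s hs).symm.trans (key t ht)

end Orders

variable {G : Type u} [Group G] [Finite G]

/-- Three pairwise non-adjacent primes, one of them two, exclude solubility. -/
theorem not_solvable_of_three (hC : CIT G) {r s : ℕ} (hr : r.Prime) (hs' : s.Prime) (hr2 : r ≠ 2) (hs2 : s ≠ 2)
    (hrs : r ≠ s) (hrn : r ∣ Nat.card G) (hsn : s ∣ Nat.card G) (h2n : 2 ∣ Nat.card G)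
    (hx : ¬ ∃ x : G, orderOf x = r * s) : ¬ Group.IsSolvable G := by
  classical
  intro hs
  set n := Nat.card G with hn
  have hn0 : n ≠ 0 := Nat.card_pos.ne'
  set a := 2 ^ n.factorization 2 * r ^ n.factorization r * s ^ n.factorization s with ha
  have hadvd : a ∣ n := by
    refine Nat.Coprime.mul_dvd_of_dvd_of_dvd ?_ (Nat.Coprime.mul_dvd_of_dvd_of_dvd ?_ (Nat.ordProj_dvd n 2)
      (Nat.ordProj_dvd n r)) (Nat.ordProj_dvd n s)
    · exact Nat.Coprime.mul_left (Nat.Coprime.pow _ _ ((Nat.coprime_primes Nat.prime_two hs').mpr hs2.symm))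
        (Nat.Coprime.pow _ _ ((Nat.coprime_primes hr hs').mpr hrs))
    · exact Nat.Coprime.pow _ _ ((Nat.coprime_primes Nat.prime_two hr).mpr hr2.symm)
  have hnot : ∀ p : ℕ, p.Prime → p ^ n.factorization p ∣ a → ¬ p ∣ n / a := by
    intro p hp hpa hd
    refine Nat.not_dvd_ordCompl hp hn0 (hd.trans ?_)
    rw [Nat.dvd_div_iff_mul_dvd (Nat.ordProj_dvd n p)]
    exact (mul_dvd_mul_right hpa (n / a)).trans (Nat.mul_div_cancel' hadvd).dvd
  have h2p := Nat.prime_two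
  have hcop : a.Coprime (n / a) := by
    refine Nat.Coprime.mul_left (Nat.Coprime.mul_left ?_ ?_) ?_ <;>
      refine Nat.Coprime.pow_left _ ((Nat.Prime.coprime_iff_not_dvd (by assumption)).mpr (hnot _ (by assumption) ?_))
    · exact ((dvd_mul_right _ _).mul_right _)
    · exact ((dvd_mul_left _ _).mul_right _)
    · exact dvd_mul_left _ _
  obtain ⟨⟨H, hH⟩, -⟩ := CfsgLib.hall_main (G := G) (m := a) (n := n / a) (Nat.mul_div_cancel' hadvd).symm hcop
  have hprimes : ∀ p : ℕ, p.Prime → p ∣ a → p = 2 ∨ p = r ∨ p = s := by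
    intro p hp hpa
    rcases hp.dvd_mul.mp hpa with hd | hd
    · rcases hp.dvd_mul.mp hd with hd | hd
      · exact Or.inl ((Nat.prime_dvd_prime_iff_eq hp Nat.prime_two).mp (hp.dvd_of_dvd_pow hd))
      · exact Or.inr (Or.inl ((Nat.prime_dvd_prime_iff_eq hp hr).mp (hp.dvd_of_dvd_pow hd)))
    · exact Or.inr (Or.inr ((Nat.prime_dvd_prime_iff_eq hp hs').mp (hp.dvd_of_dvd_pow hd)))
  have hno : ∀ (x : G) (p q : ℕ), p.Prime → q.Prime → p ≠ q → (p = 2 ∨ p = r ∨ p = s) → (q = 2 ∨ q = r ∨ q = s) →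
      p ∣ orderOf x → q ∣ orderOf x → False := by
    intro x p q hp hq hne hp' hq' hpd hqd
    rcases hp' with rfl | rfl | rfl <;> rcases hq' with rfl | rfl | rfl
    all_goals first
      | exact hne rfl
      | exact no_commute hC hq (by assumption) hpd hqd (Commute.refl x)
      | exact no_commute hC hp (by assumption) hqd hpd (Commute.refl x)
      | exact hx (exists_orderOf_mul x (Nat.Coprime.mul_dvd_of_dvd_of_dvd
            ((Nat.coprime_primes hp hq).mpr hne) hpd hqd))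
      | exact hx (exists_orderOf_mul x (Nat.Coprime.mul_dvd_of_dvd_of_dvd
            ((Nat.coprime_primes hq hp).mpr hne.symm) hqd hpd))
  have hepo : ∀ g : H, g ≠ 1 → IsPrimePow (orderOf g) := by
    intro g hg
    obtain ⟨p, hp, hpd⟩ := Nat.exists_prime_and_dvd (show orderOf g ≠ 1 from fun e => hg (orderOf_eq_one_iff.mp e))
    rw [isPrimePow_iff_unique_prime_dvd]
    refine ⟨p, ⟨hp, hpd⟩, ?_⟩
    rintro q ⟨hq, hqd⟩
    by_contra hne
    have hdvd : orderOf g ∣ a := hH ▸ orderOf_dvd_natCard g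
    exact hno (g : G) q p hq hp hne (hprimes q hq (hqd.trans hdvd)) (hprimes p hp (hpd.trans hdvd))
      (by rwa [Subgroup.orderOf_coe]) (by rwa [Subgroup.orderOf_coe])
  have h3 : ({2, r, s} : Finset ℕ) ⊆ (Nat.card H).primeFactors := by
    rw [hH]
    intro p hp
    simp only [Finset.mem_insert, Finset.mem_singleton] at hp
    have ha0 : a ≠ 0 := fun e => Nat.card_pos.ne' (hH.trans e)
    rcases hp with rfl | rfl | rfl
    · exact Nat.mem_primeFactors.mpr ⟨Nat.prime_two, ((dvd_pow_self 2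
        ((Nat.prime_two.dvd_iff_one_le_factorization hn0).mp h2n |> fun h => by omega)).mul_right _).mul_right _, ha0⟩
    · exact Nat.mem_primeFactors.mpr ⟨hr, ((dvd_pow_self p
        ((hr.dvd_iff_one_le_factorization hn0).mp hrn |> fun h => by omega)).mul_left _).mul_right _, ha0⟩
    · exact Nat.mem_primeFactors.mpr ⟨hs', (dvd_pow_self p
        ((hs'.dvd_iff_one_le_factorization hn0).mp hsn |> fun h => by omega)).mul_left _, ha0⟩
  have h4 := Finset.card_le_card h3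
  rw [Finset.card_insert_of_notMem (by simp [Ne.symm hr2, Ne.symm hs2]), Finset.card_pair hrs] at h4
  have := Cfsg.Agent.S3992.Aux.two_primes hepo
  omega

/-- One class of involutions in the socle and odd outer automorphism group: the socle is everything. -/
theorem index_one_of_conj (hC : CIT G) (N : Subgroup G) [N.Normal] [IsSimpleGroup N] (hN : ¬ IsMulCommutative N)
    {S : Type v} [Group S] [Finite S] (e : N ≃* S) (hone : ∀ s t : S, orderOf s = 2 → orderOf t = 2 → IsConj s t)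
    (hout : Odd (Nat.card (Cfsg.Out S))) : N.index = 1 := by
  classical
  haveI : Fact (Nat.Prime 2) := ⟨Nat.prime_two⟩
  have hns : ¬ Group.IsSolvable N := fun h => by
    haveI := h
    exact hN ⟨⟨IsSimpleGroup.comm_iff_isSolvable.mpr h⟩⟩
  obtain ⟨t, ht⟩ := exists_prime_orderOf_dvd_card' (G := N) 2 (two_dvd_card hns)
  have htG : orderOf (t : G) = 2 := by rw [Subgroup.orderOf_coe, ht]
  obtain ⟨p, hp, hpN, hp2⟩ : ∃ p : ℕ, p.Prime ∧ p ∣ Nat.card N ∧ p ≠ 2 := by
    by_contra h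
    push Not at h
    haveI := (IsPGroup.of_card (Nat.eq_prime_pow_of_unique_prime_dvd Nat.card_pos.ne'
      fun {r} hr hd => h r hr hd) : IsPGroup 2 N).isNilpotent
    exact hns inferInstance
  haveI := Fact.mk hp
  obtain ⟨x, hx⟩ := exists_prime_orderOf_dvd_card' (G := N) p hpN
  have hcent : ∀ c : G, (∀ n : N, c * n * c⁻¹ = n) → c = 1 := by
    intro c hc
    obtain ⟨i, hi⟩ := hC _ htG ⟨c, mem_centralizer_singleton_iff.mpr (mul_inv_eq_iff_eq_mul.mp (hc t))⟩
    exact fpf hC hp hp2 (x := (x : G)) (by rw [Subgroup.orderOf_coe, hx]) (congrArg Subtype.val hi)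
      (mul_inv_eq_iff_eq_mul.mp (hc x))
  set f : G →* Cfsg.Out S :=
    (QuotientGroup.mk' (Cfsg.Inn S)).comp ((MulAut.congr e).toMonoidHom.comp MulAut.conjNormal) with hf
  have hker : f.ker ≤ N := by
    intro g hg
    obtain ⟨s, hs⟩ := (QuotientGroup.eq_one_iff _).mp (MonoidHom.mem_ker.mp hg)
    have key : ∀ n : N, g * n * g⁻¹ = ((e.symm s : N) : G) * n * ((e.symm s : N) : G)⁻¹ := by
      intro n
      have h := congrArg e.symm (DFunLike.congr_fun hs (e n))
      have h' : e.symm s * n * (e.symm s)⁻¹ = MulAut.conjNormal g n := by simpa using h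
      have h'' := congrArg Subtype.val h'
      rw [MulAut.conjNormal_apply] at h''
      exact h''.symm
    have := hcent (((e.symm s : N) : G)⁻¹ * g) fun n => by
      calc ((e.symm s : N) : G)⁻¹ * g * n * (((e.symm s : N) : G)⁻¹ * g)⁻¹
          = ((e.symm s : N) : G)⁻¹ * (g * n * g⁻¹) * ((e.symm s : N) : G) := by group
        _ = n := by rw [key n]; group
    rw [inv_mul_eq_one] at this
    exact this ▸ (e.symm s).2
  have h1 : N.index ∣ Nat.card (Cfsg.Out S) := by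
    refine (Subgroup.index_dvd_of_le hker).trans ?_
    rw [Subgroup.index_ker]
    exact card_subgroup_dvd_card f.range
  set π := (QuotientGroup.mk' N).comp (centralizer ({(t : G)} : Set G)).subtype
  have hπ : Function.Surjective π := by
    intro y
    obtain ⟨g, rfl⟩ := QuotientGroup.mk'_surjective N y
    have ho : orderOf (MulAut.conjNormal g t) = 2 := by rw [MulEquiv.orderOf_eq, ht]
    obtain ⟨c, hc⟩ := isConj_iff.mp (hone (e t) (e (MulAut.conjNormal g t))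
      (by rw [MulEquiv.orderOf_eq, ht]) (by rw [MulEquiv.orderOf_eq, ho]))
    have h := congrArg Subtype.val (congrArg e.symm hc)
    simp only [map_mul, map_inv, MulEquiv.symm_apply_apply, Subgroup.coe_mul, Subgroup.coe_inv,
      MulAut.conjNormal_apply] at h
    refine ⟨⟨((e.symm c : N) : G)⁻¹ * g, mem_centralizer_singleton_iff.mpr ?_⟩, ?_⟩
    · calc ((e.symm c : N) : G)⁻¹ * g * t = ((e.symm c : N) : G)⁻¹ * (g * t * g⁻¹) * g := by group
        _ = t * (((e.symm c : N) : G)⁻¹ * g) := by rw [← h]; group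
    · show QuotientGroup.mk' N (((e.symm c : N) : G)⁻¹ * g) = QuotientGroup.mk' N g
      rw [map_mul, QuotientGroup.mk'_apply, (QuotientGroup.eq_one_iff _).mpr (inv_mem (e.symm c).2), one_mul]
  obtain ⟨j, hj⟩ := IsPGroup.iff_card.mp ((hC _ htG).of_surjective π hπ)
  rw [← Subgroup.index_eq_card] at hj
  exact Nat.eq_one_of_dvd_coprimes ((Nat.coprime_two_right.mpr hout).pow_right j) h1 (hj ▸ dvd_rfl)

theorem three_dvd_sq_sub_one {q : ℕ} (h : ¬ 3 ∣ q) : 3 ∣ q ^ 2 - 1 := by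
  have : q ^ 2 % 3 = 1 := by
    rw [Nat.pow_mod]
    have : q % 3 = 1 ∨ q % 3 = 2 := by omega
    rcases this with h | h <;> rw [h]
  omega

/-- A simple group without elements of order three among the possible ones is a Suzuki group. -/
theorem suzuki_of_outcome {N : Type u} [Group N] [Finite N] [IsSimpleGroup N] (hna : ∃ a b : N, a * b ≠ b * a)
    (hC : CIT.IsCIT N) (h : CIT.Outcome N) (h3 : ¬ 3 ∣ Nat.card N) :
    ∃ (F : Type) (_ : Field F) (_ : Fintype F) (m : ℕ), 1 ≤ m ∧ Fintype.card F = 2 ^ (2 * m + 1) ∧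
      Nat.card N = (2 ^ (2 * m + 1)) ^ 2 * ((2 ^ (2 * m + 1)) ^ 2 + 1) * (2 ^ (2 * m + 1) - 1) ∧
      Nonempty (N ≃* ↥(Cfsg.Lie.Sz F (2 ^ (m + 1)))) := by
  rcases h with ⟨hTI, ⟨K, _, _, n, -, hK, ⟨e⟩⟩ | hS⟩ | ⟨K, _, _, hK, ⟨e⟩⟩ | ⟨K, _, _, hK, ⟨e⟩⟩
  · exfalso
    have hc := EppoAlmost.card_psl_two (F := K)
    rw [← Nat.card_congr e.toEquiv, hK] at hc
    have h' : 3 ∣ Nat.gcd 2 (2 ^ n - 1) * Nat.card N := hc ▸ dvd_mul_of_dvd_right
      (three_dvd_sq_sub_one fun h => absurd ((Nat.prime_dvd_prime_iff_eq Nat.prime_three Nat.prime_two).mp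
        (Nat.prime_three.dvd_of_dvd_pow h)) (by norm_num)) _
    exact h3 ((Nat.Coprime.dvd_of_dvd_mul_left
      (Nat.Coprime.coprime_dvd_right (Nat.gcd_dvd_left _ _) (by norm_num)) h'))
  · exact SuzukiUnique.exists_equiv_of_suzType hna hC hTI hS
  · exfalso
    have hc := EppoAlmost.card_psl_two (F := K)
    rw [← Nat.card_congr e.toEquiv] at hc
    rcases hK with hK | ⟨h7, hp, -⟩
    · rw [hK] at hc
      norm_num at hc
      omega
    · have h' : 3 ∣ Nat.gcd 2 (Fintype.card K - 1) * Nat.card N := hc ▸ dvd_mul_of_dvd_right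
        (three_dvd_sq_sub_one fun h => by
          have := (Nat.prime_dvd_prime_iff_eq Nat.prime_three hp).mp h
          omega) _
      exact h3 ((Nat.Coprime.dvd_of_dvd_mul_left
        (Nat.Coprime.coprime_dvd_right (Nat.gcd_dvd_left _ _) (by norm_num)) h'))
  · exfalso
    rw [Nat.card_congr e.toEquiv, EppoAlmost.card_psl_three_four hK] at h3
    norm_num at h3

/-- Recognition of a Suzuki group by its prime graph. -/
theorem suzuki_recognition
    (H : ∀ (X : Type u) [Group X] [Finite X] [IsSimpleGroup X], (∃ a b : X, a * b ≠ b * a) → CIT.IsCIT X →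
      CIT.Outcome X)
    {F : Type*} [Field F] [Fintype F] (m : ℕ) (hm : 1 ≤ m) (hF : Fintype.card F = 2 ^ (2 * m + 1))
    (h : ((∀ r : ℕ, r.Prime → (r ∣ Nat.card ↥(Cfsg.Lie.Sz F (2 ^ (m + 1))) ↔ r ∣ Nat.card G)) ∧
      (∀ r s : ℕ, r.Prime → s.Prime → r ≠ s → ((∃ x : ↥(Cfsg.Lie.Sz F (2 ^ (m + 1))), orderOf x = r * s) ↔
        (∃ y : G, orderOf y = r * s))))) :
    Nonempty (G ⧸ Cfsg.pCore 2 G ≃* ↥(Cfsg.Lie.Sz F (2 ^ (m + 1)))) := by
  classical
  haveI : Fact (Nat.Prime 2) := ⟨Nat.prime_two⟩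
  have hcS : Nat.card ↥(Cfsg.Lie.Sz F (2 ^ (m + 1))) =
      (2 ^ (2 * m + 1)) ^ 2 * ((2 ^ (2 * m + 1)) ^ 2 + 1) * (2 ^ (2 * m + 1) - 1) :=
    (Nat.card_congr (Suzuki.lieEquiv hF hm).toEquiv).symm.trans (Suzuki.card_Sz hF hm)
  have hord : ∀ n : ℕ, (∃ x : ↥(Cfsg.Lie.Sz F (2 ^ (m + 1))), orderOf x = n) →
      n ∣ (2 ^ (2 * m + 1)) ^ 2 ∨ n ∣ 2 ^ (2 * m + 1) - 1 ∨ n ∣ (2 ^ (2 * m + 1)) ^ 2 + 1 := by
    rintro n ⟨x, rfl⟩
    rw [← MulEquiv.orderOf_eq (Suzuki.lieEquiv hF hm).symm x]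
    exact sz_orders hF hm _
  have h2odd : ¬ 2 ∣ (2 ^ (2 * m + 1)) ^ 2 + 1 := by
    have : 2 ∣ (2 ^ (2 * m + 1)) ^ 2 := dvd_pow (dvd_pow_self 2 (by omega)) two_ne_zero
    omega
  have hq8 : 8 ≤ 2 ^ (2 * m + 1) := by
    calc 8 = 2 ^ 3 := by norm_num
      _ ≤ _ := Nat.pow_le_pow_right (by norm_num) (by omega)
  have hdiff : ∀ p : ℕ, p.Prime → p ∣ 2 ^ (2 * m + 1) - 1 → p ∣ (2 ^ (2 * m + 1)) ^ 2 + 1 → p = 2 := by
    intro p hp h1 h2
    have h3 : p ∣ (2 ^ (2 * m + 1)) ^ 2 - 1 :=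
      h1.trans (by rw [show (2 ^ (2 * m + 1)) ^ 2 - 1 = (2 ^ (2 * m + 1) + 1) * (2 ^ (2 * m + 1) - 1) by
        rw [← Nat.sq_sub_sq, one_pow]]; exact dvd_mul_left _ _)
    have h4 := Nat.dvd_sub h2 h3
    have : 1 ≤ (2 ^ (2 * m + 1)) ^ 2 := Nat.one_le_pow _ _ (by omega)
    rw [show (2 ^ (2 * m + 1)) ^ 2 + 1 - ((2 ^ (2 * m + 1)) ^ 2 - 1) = 2 by omega] at h4
    exact (Nat.prime_dvd_prime_iff_eq hp Nat.prime_two).mp h4
  have hcit : CIT G := by
    intro t ht
    refine IsPGroup.of_card (Nat.eq_prime_pow_of_unique_prime_dvd Nat.card_pos.ne' fun {r} hr hd => ?_)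
    by_contra hr2
    haveI := Fact.mk hr
    obtain ⟨c, hc'⟩ := exists_prime_orderOf_dvd_card' (G := centralizer ({t} : Set G)) r hd
    rw [← Subgroup.orderOf_coe] at hc'
    have hcom : Commute t (c : G) := (mem_centralizer_singleton_iff.mp c.2).symm
    have hord' := hcom.orderOf_mul_eq_mul_orderOf_of_coprime
      (by rw [ht, hc']; exact (Nat.coprime_primes Nat.prime_two hr).mpr (Ne.symm hr2))
    rw [ht, hc'] at hord'
    rcases hord (2 * r) ((h.2 2 r Nat.prime_two hr (Ne.symm hr2)).mpr ⟨_, hord'⟩) with h' | h' | h'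
    · rw [← pow_mul] at h'
      exact hr2 ((Nat.prime_dvd_prime_iff_eq hr Nat.prime_two).mp (hr.dvd_of_dvd_pow ((dvd_mul_left r 2).trans h')))
    · exact two_not_dvd_pow_sub_one (j := 2 * m + 1) (by omega) ((dvd_mul_right 2 r).trans h')
    · exact h2odd ((dvd_mul_right 2 r).trans h')
  obtain ⟨r, hr, hrd⟩ := Nat.exists_prime_and_dvd (show 2 ^ (2 * m + 1) - 1 ≠ 1 by omega)
  obtain ⟨s, hs, hsd⟩ := Nat.exists_prime_and_dvd (show (2 ^ (2 * m + 1)) ^ 2 + 1 ≠ 1 by simp)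
  have hr2 : r ≠ 2 := fun e => two_not_dvd_pow_sub_one (j := 2 * m + 1) (by omega) (e ▸ hrd)
  have hs2 : s ≠ 2 := fun e => h2odd (e ▸ hsd)
  have hrs : r ≠ s := fun e => hr2 (hdiff r hr hrd (e ▸ hsd))
  have hnsol : ¬ Group.IsSolvable G := by
    refine not_solvable_of_three hcit hr hs hr2 hs2 hrs ((h.1 r hr).mp ?_) ((h.1 s hs).mp ?_)
      ((h.1 2 Nat.prime_two).mp ?_) ?_
    · rw [hcS]; exact hrd.mul_left _
    · rw [hcS]; exact (hsd.mul_left _).mul_right _
    · rw [hcS]; exact ((dvd_pow (dvd_pow_self 2 (by omega)) two_ne_zero).mul_right _).mul_right _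
    · intro hx
      rcases hord (r * s) ((h.2 r s hr hs hrs).mpr hx) with h' | h' | h'
      · rw [← pow_mul] at h'
        exact hr2 ((Nat.prime_dvd_prime_iff_eq hr Nat.prime_two).mp
          (hr.dvd_of_dvd_pow ((dvd_mul_right r s).trans h')))
      · exact hs2 (hdiff s hs ((dvd_mul_left s r).trans h') hsd)
      · exact hr2 (hdiff r hr hrd ((dvd_mul_right r s).trans h'))
  set Q := Cfsg.pCore 2 G with hQ
  have hQ2 : IsPGroup 2 Q := CfsgLib.isPGroup_pCore 2
  have hnsQ : ¬ Group.IsSolvable (G ⧸ Q) := fun hs => hnsol ((Group.isSolvable_iff_subgroup_quotient Q).mpr ⟨by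
    haveI := hQ2.isNilpotent
    infer_instance, hs⟩)
  have hCq := cit_quotient hcit Q hQ2
  obtain ⟨N, hNn, hNs, hNc⟩ := exists_simple hCq hnsQ CfsgLib.ZJ.pCore_quotient_pCore_eq_bot
  haveI := hNn
  haveI := hNs
  have hna : ∃ a b : N, a * b ≠ b * a := by
    by_contra hh
    push Not at hh
    exact hNc ⟨⟨hh⟩⟩
  have hNG : ∀ p : ℕ, p.Prime → p ∣ Nat.card N → p ∣ Nat.card ↥(Cfsg.Lie.Sz F (2 ^ (m + 1))) := fun p hp hd =>
    (h.1 p hp).mpr (hd.trans ((card_subgroup_dvd_card N).trans (card_quotient_dvd_card Q)))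
  have h3 : ¬ 3 ∣ Nat.card N := fun hd =>
    SuzukiUnique.not_three_dvd m (hcS ▸ hNG 3 Nat.prime_three hd)
  obtain ⟨F', _, _, m', hm', hF', hcN, ⟨e⟩⟩ :=
    suzuki_of_outcome hna (cit_subgroup hCq N) (H N hna (cit_subgroup hCq N)) h3
  -- the field
  have hdvd4 : ∀ k p : ℕ, p.Prime → p ≠ 2 →
      p ∣ (2 ^ k) ^ 2 * ((2 ^ k) ^ 2 + 1) * (2 ^ k - 1) → p ∣ 2 ^ (4 * k) - 1 := by
    intro k p hp hp2 hd
    rw [mul_assoc] at hd
    rcases hp.dvd_mul.mp hd with h' | h'
    · rw [← pow_mul] at h'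
      exact absurd ((Nat.prime_dvd_prime_iff_eq hp Nat.prime_two).mp (hp.dvd_of_dvd_pow h')) hp2
    · have e2 : (2 ^ k) ^ 2 = 2 ^ (2 * k) := by rw [← pow_mul, mul_comm]
      rw [show 4 * k = 2 * (2 * k) by ring]
      rcases hp.dvd_mul.mp h' with h'' | h''
      · exact dvd_double (Or.inr (e2 ▸ h''))
      · exact dvd_double (Or.inl (dvd_double (Or.inl h'')))
  have hhalf : ∀ k p : ℕ, p.Prime → p ∣ 2 ^ (4 * k) - 1 → ¬ p ∣ 2 ^ (2 * k) - 1 →
      p ∣ (2 ^ k) ^ 2 * ((2 ^ k) ^ 2 + 1) * (2 ^ k - 1) := by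
    intro k p hp hd hnot
    rw [show 4 * k = 2 * (2 * k) by ring] at hd
    have h' := (dvd_of_double hp hd).resolve_left hnot
    rw [show 2 ^ (2 * k) = (2 ^ k) ^ 2 by rw [← pow_mul, mul_comm]] at h'
    exact (h'.mul_left _).mul_right _
  obtain ⟨R', hR', hR'd, hR'min⟩ := primitive (4 * (2 * m' + 1)) (by omega) (by omega)
  have hR'2 : R' ≠ 2 := fun e => two_not_dvd_pow_sub_one (j := 4 * (2 * m' + 1)) (by omega) (e ▸ hR'd)
  have hR'N : R' ∣ Nat.card N :=
    hcN ▸ hhalf _ R' hR' hR'd (hR'min _ (by omega) (by omega))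
  have hd1 : 2 * m' + 1 ∣ 2 * m + 1 := Nat.dvd_of_mul_dvd_mul_left (by norm_num : 0 < 4)
    (ord_dvd (by omega) hR'd hR'min (hdvd4 _ R' hR' hR'2 (hcS ▸ hNG R' hR' hR'N)))
  obtain ⟨R, hR, hRd, hRmin⟩ := primitive (4 * (2 * m + 1)) (by omega) (by omega)
  haveI := Fact.mk hR
  have hR2 : R ≠ 2 := fun e => two_not_dvd_pow_sub_one (j := 4 * (2 * m + 1)) (by omega) (e ▸ hRd)
  have hRG : R ∣ Nat.card (G ⧸ Q) := by
    have hd := (h.1 R hR).mp (hcS ▸ hhalf _ R hR hRd (hRmin _ (by omega) (by omega)))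
    rw [Subgroup.card_eq_card_quotient_mul_card_subgroup Q] at hd
    refine (hR.dvd_mul.mp hd).resolve_right fun hQd => ?_
    obtain ⟨i, hi⟩ := IsPGroup.iff_card.mp hQ2
    exact hR2 ((Nat.prime_dvd_prime_iff_eq hR Nat.prime_two).mp (hR.dvd_of_dvd_pow (hi ▸ hQd)))
  have hmm : m' = m := by
    have hle := Nat.le_of_dvd (by omega) hd1
    by_cases hRN : R ∣ Nat.card N
    · have := Nat.le_of_dvd (by omega)
        (Nat.dvd_of_mul_dvd_mul_left (by norm_num : 0 < 4)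
          (ord_dvd (by omega) hRd hRmin (hdvd4 _ R hR hR2 (hcN ▸ hRN))))
      omega
    · have hodd : ¬ 2 ∣ ((2 ^ (2 * m' + 1)) ^ 2 + 1) * (2 ^ (2 * m' + 1) - 1) := fun hd => by
        rcases Nat.prime_two.dvd_mul.mp hd with hd | hd
        · have : 2 ∣ (2 ^ (2 * m' + 1)) ^ 2 := dvd_pow (dvd_pow_self 2 (by omega)) two_ne_zero
          omega
        · exact two_not_dvd_pow_sub_one (by omega) hd
      have hv : (Nat.card N).factorization 2 = (2 * m' + 1) * 2 :=
        factorization_two (by rw [hcN, mul_assoc, ← pow_mul]) hodd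
      have := Nat.le_of_dvd (by omega)
        (ord_dvd (by omega) hRd hRmin (dvd_two_pow_sub_one hCq N hR2 hRN hRG hv))
      omega
  subst hmm
  obtain ⟨τ⟩ := SuzukiUnique.nonempty_lie_congr hm hF hF'
  have hidx : N.index = 1 := index_one_of_conj hCq N hNc
    ((e.trans τ).trans (Suzuki.lieEquiv hF hm).symm) (fun s t => sz_isConj hF hm)
    (by rw [Suzuki.card_out hF hm]; exact odd_two_mul_add_one m')
  exact ⟨((Subgroup.topEquiv.symm.trans (MulEquiv.subgroupCongr (index_eq_one.mp hidx).symm)).trans e).trans τ⟩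

end CfsgLib.CITQuot
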